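import Mathlib
import Groth.Agent.S0554

/-!
# Two elements generating a power of the maximal ideal up to reduction

For a two-dimensional local domain some power of the maximal ideal has a two-generated reduction. The proof
chooses forms avoiding the minimal primes of the exceptional divisor of the blow-up, chart by chart.
-/

set_option autoImplicit false
set_option linter.style.haveILetI false
set_option linter.unusedSectionVars false
set_option maxHeartbeats 400000

universe u

open IsLocalRing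

noncomputable section

namespace Groth.Agent.RatSing

variable {A : Type u} [CommRing A] [IsDomain A] [IsLocalRing A] [IsNoetherianRing A]
  {K : Type u} [Field K] [Algebra A K] [IsFractionRing A K]

local notation "ι" => algebraMap A K

/-- The chart of the blow-up at an element of the maximal ideal. -/
def chart (a : A) : Subalgebra A K := Algebra.adjoin A ((fun c => ι c / ι a) '' (maximalIdeal A : Set A))

theorem inj {a : A} (ha : a ≠ 0) : ι a ≠ 0 := (map_ne_zero_iff _ (IsFractionRing.injective A K)).2 ha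

theorem div_mem_chart (a : A) {n : ℕ} {c : A} (hc : c ∈ maximalIdeal A ^ n) : ι c / ι a ^ n ∈ chart (K := K) a := by
  induction n generalizing c with
  | zero => rw [pow_zero, div_one]; exact Subalgebra.algebraMap_mem _ c
  | succ n ih =>
    rw [pow_succ] at hc
    induction hc using Submodule.mul_induction_on' with
    | mem_mul_mem p hp q hq =>
      rw [map_mul, pow_succ, mul_div_mul_comm]
      exact mul_mem (ih hp) (Algebra.subset_adjoin ⟨q, hq, rfl⟩)
    | add p _ q _ hp hq => rw [map_add, add_div]; exact add_mem hp hq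

theorem exists_rep {a : A} (ha : a ∈ maximalIdeal A) (ha0 : a ≠ 0) {x : K} (hx : x ∈ chart (K := K) a) :
    ∃ N, ∀ n, N ≤ n → ∃ c ∈ maximalIdeal A ^ n, x = ι c / ι a ^ n := by
  have hne := inj (K := K) ha0
  induction hx using Algebra.adjoin_induction with
  | mem x hx =>
    obtain ⟨c, hc, rfl⟩ := hx
    refine ⟨1, fun n hn => ⟨c * a ^ (n - 1), ?_, ?_⟩⟩
    · have h := Ideal.mul_mem_mul hc (Ideal.pow_mem_pow ha (n - 1))
      rwa [← pow_succ', Nat.sub_add_cancel hn] at h
    · rw [map_mul, map_pow]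
      conv_rhs => rw [show n = n - 1 + 1 by omega, pow_succ, Nat.add_sub_cancel]
      field_simp
  | algebraMap r =>
    refine ⟨0, fun n _ => ⟨r * a ^ n, Ideal.mul_mem_left _ _ (Ideal.pow_mem_pow ha n), ?_⟩⟩
    rw [map_mul, map_pow]; field_simp
  | add x y _ _ hx hy =>
    obtain ⟨N, hN⟩ := hx
    obtain ⟨M, hM⟩ := hy
    refine ⟨max N M, fun n hn => ?_⟩
    obtain ⟨c, hc, rfl⟩ := hN n (le_of_max_le_left hn)
    obtain ⟨d, hd, rfl⟩ := hM n (le_of_max_le_right hn)
    exact ⟨c + d, add_mem hc hd, by rw [map_add, add_div]⟩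
  | mul x y _ _ hx hy =>
    obtain ⟨N, hN⟩ := hx
    obtain ⟨M, hM⟩ := hy
    refine ⟨N + M, fun n hn => ?_⟩
    obtain ⟨c, hc, rfl⟩ := hN N le_rfl
    obtain ⟨d, hd, rfl⟩ := hM (n - N) (by omega)
    refine ⟨c * d, ?_, ?_⟩
    · have h := Ideal.mul_mem_mul hc hd
      rwa [← pow_add, show N + (n - N) = n by omega] at h
    · rw [map_mul, div_mul_div_comm, ← pow_add, show N + (n - N) = n by omega]

theorem mem_chart_self (a : A) : ι a ∈ chart (K := K) a := Subalgebra.algebraMap_mem _ a

theorem isNoetherian_chart (a : A) : IsNoetherianRing (chart (K := K) a) := by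
  classical
  obtain ⟨s, hs⟩ := (IsNoetherian.noetherian (maximalIdeal A) : (maximalIdeal A).FG)
  refine isNoetherianRing_of_fg ⟨s.image fun c => ι c / ι a, le_antisymm ?_ ?_⟩
  · rw [Algebra.adjoin_le_iff, Finset.coe_image]
    rintro _ ⟨c, hc, rfl⟩
    exact Algebra.subset_adjoin ⟨c, hs ▸ Submodule.subset_span hc, rfl⟩
  · refine Algebra.adjoin_le ?_
    rintro _ ⟨c, hc, rfl⟩
    rw [← hs] at hc
    induction hc using Submodule.span_induction with
    | mem c hc => exact Algebra.subset_adjoin (Finset.mem_coe.2 (Finset.mem_image_of_mem _ hc))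
    | zero => simp only [map_zero, zero_div]; exact zero_mem _
    | add p q _ _ hp hq => simp only [map_add, add_div]; exact add_mem hp hq
    | smul r p _ hp =>
      simp only [smul_eq_mul, map_mul, mul_div_assoc]
      exact mul_mem (Subalgebra.algebraMap_mem _ r) hp

theorem height_le {a : A} (hA : ringKrullDim A ≤ 2) (ha : a ∈ maximalIdeal A) (ha0 : a ≠ 0)
    (q : Ideal (chart (K := K) a)) [q.IsPrime] : q.height ≤ 2 := by
  let S := chart (K := K) a
  haveI : FaithfulSMul A S := (faithfulSMul_iff_algebraMap_injective A S).2 fun x y h =>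
    IsFractionRing.injective A K (congrArg Subtype.val h)
  haveI : Algebra.FiniteType A S := by
    classical
    obtain ⟨s, hs⟩ := (IsNoetherian.noetherian (maximalIdeal A) : (maximalIdeal A).FG)
    refine ⟨(Subalgebra.fg_top _).2 ⟨s.image fun c => ι c / ι a, le_antisymm ?_ ?_⟩⟩
    · rw [Algebra.adjoin_le_iff, Finset.coe_image]
      rintro _ ⟨c, hc, rfl⟩
      exact Algebra.subset_adjoin ⟨c, hs ▸ Submodule.subset_span hc, rfl⟩
    · refine Algebra.adjoin_le ?_
      rintro _ ⟨c, hc, rfl⟩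
      rw [← hs] at hc
      induction hc using Submodule.span_induction with
      | mem c hc => exact Algebra.subset_adjoin (Finset.mem_coe.2 (Finset.mem_image_of_mem _ hc))
      | zero => simp only [map_zero, zero_div]; exact zero_mem _
      | add p q _ _ hp hq => simp only [map_add, add_div]; exact add_mem hp hq
      | smul r p _ hp =>
        simp only [smul_eq_mul, map_mul, mul_div_assoc]
        exact mul_mem (Subalgebra.algebraMap_mem _ r) hp
  haveI : q.LiesOver (q.under A) := ⟨rfl⟩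
  haveI : Algebra.IsAlgebraic A S := ⟨fun x => by
    obtain ⟨N, hN⟩ := exists_rep ha ha0 x.2
    obtain ⟨c, -, hc⟩ := hN N le_rfl
    refine ⟨Polynomial.C (a ^ N) * Polynomial.X - Polynomial.C c, fun h => ?_, ?_⟩
    · have h1 := congrArg (Polynomial.coeff · 1) h
      simp only [Polynomial.coeff_sub, Polynomial.coeff_C_mul, Polynomial.coeff_X_one, mul_one,
        Polynomial.coeff_C_of_ne_zero one_ne_zero, sub_zero, Polynomial.coeff_zero] at h1
      exact ha0 (eq_zero_of_pow_eq_zero h1)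
    · apply Subtype.ext
      show ((Polynomial.aeval x (Polynomial.C (a ^ N) * Polynomial.X - Polynomial.C c) : S) : K) = 0
      rw [map_sub, map_mul, Polynomial.aeval_C, Polynomial.aeval_C, Polynomial.aeval_X]
      show ι (a ^ N) * (x : K) - ι c = 0
      rw [map_pow, hc, mul_div_cancel₀ _ (pow_ne_zero _ (inj ha0)), sub_self]⟩
  have h := S0554.result A S (q.under A) q
  have h0 : Algebra.trdeg A S = 0 := trdeg_eq_zero
  rw [h0, add_zero] at h
  have h1 : (q.height : Cardinal.{u}) ≤ ((q.under A).height : Cardinal.{u}) := le_self_add.trans h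
  refine le_trans (by exact_mod_cast h1) ?_
  exact WithBot.coe_le_coe.1 (((q.under A).height_le_ringKrullDim_of_ne_top (Ideal.IsPrime.ne_top inferInstance)).trans
    (hA.trans_eq (by rfl)))

/-- A chart point: a generator and a prime of its chart. -/
structure Pt (A : Type u) [CommRing A] [IsDomain A] [IsLocalRing A] [IsNoetherianRing A] (K : Type u) [Field K]
    [Algebra A K] [IsFractionRing A K] where
  a : A
  ha : a ∈ maximalIdeal A
  ha0 : a ≠ 0
  P : Ideal (chart (K := K) a)
  hP : P.IsPrime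

/-- A form of degree `n` is nonzero at a point. -/
def Pt.Good (s : Pt A K) (n : ℕ) (c : A) : Prop :=
  ∀ h : c ∈ maximalIdeal A ^ n, (⟨_, div_mem_chart s.a h⟩ : chart (K := K) s.a) ∉ s.P

theorem good_pow (s : Pt A K) {n : ℕ} {c : A} (hc : c ∈ maximalIdeal A ^ n) (hg : s.Good n c) (k : ℕ) :
    s.Good (n * k) (c ^ k) := by
  intro h hm
  haveI := s.hP
  refine hg hc (s.hP.mem_of_pow_mem k ?_)
  convert hm using 1
  refine Subtype.ext ?_
  show (ι c / ι s.a ^ n) ^ k = ι (c ^ k) / ι s.a ^ (n * k)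
  rw [map_pow, div_pow, pow_mul]

theorem not_good_iff (s : Pt A K) {n : ℕ} {c : A} (hc : c ∈ maximalIdeal A ^ n) :
    ¬ s.Good n c ↔ (⟨_, div_mem_chart s.a hc⟩ : chart (K := K) s.a) ∈ s.P :=
  ⟨fun h => by
    by_contra h'
    exact h fun _ => h', fun h g => g hc h⟩

/-- Homogeneous conditions: ideals of the charts compatible on overlaps. -/
def Compat (s t : Pt A K) : Prop :=
  ¬ t.Good 1 s.a ∨ (∃ (n : ℕ) (c : A), c ∈ maximalIdeal A ^ n ∧ s.Good n c ∧ ¬ t.Good n c) ∨
    ∀ (n : ℕ) (c : A), c ∈ maximalIdeal A ^ n → ¬ s.Good n c → ¬ t.Good n c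

theorem exists_sep {s t : Pt A K} (h : Compat s t) {D : ℕ} {f : A} (hf : f ∈ maximalIdeal A ^ D)
    (hs : ¬ s.Good D f) (ht : t.Good D f) :
    ∃ (n : ℕ) (c : A), c ∈ maximalIdeal A ^ n ∧ s.Good n c ∧ ¬ t.Good n c := by
  rcases h with h | h | h
  · refine ⟨1, s.a, by rw [pow_one]; exact s.ha, fun hm hP => s.hP.ne_top ?_, h⟩
    refine (Ideal.eq_top_iff_one _).2 ?_
    convert hP using 1
    refine Subtype.ext ?_
    show (1 : K) = ι s.a / ι s.a ^ 1
    rw [pow_one, div_self (inj s.ha0)]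
  · exact h
  · exact absurd ht (h D f hf hs)

/-- Avoidance of finitely many points by a form. -/
theorem exists_form (S : Finset (Pt A K)) (hS : ∀ s ∈ S, ∀ t ∈ S, Compat s t) :
    ∃ (D : ℕ) (f : A), 0 < D ∧ f ∈ maximalIdeal A ^ D ∧ ∀ s ∈ S, s.Good D f := by
  classical
  induction S using Finset.induction with
  | empty => exact ⟨1, 0, one_pos, zero_mem _, fun s hs => absurd hs (Finset.notMem_empty s)⟩
  | @insert s S hsS ih =>
    obtain ⟨D, f, hD, hf, hgood⟩ := ih fun p hp q hq => hS p (Finset.mem_insert_of_mem hp) q (Finset.mem_insert_of_mem hq)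
    by_cases hs : s.Good D f
    · exact ⟨D, f, hD, hf, fun t ht => (Finset.mem_insert.1 ht).elim (fun e => e ▸ hs) (hgood t)⟩
    have hsep : ∀ T : Finset (Pt A K), T ⊆ S →
        ∃ (n : ℕ) (c : A), c ∈ maximalIdeal A ^ n ∧ s.Good n c ∧ ∀ t ∈ T, ¬ t.Good n c := by
      intro T hT
      induction T using Finset.induction with
      | empty =>
        refine ⟨0, 1, by simp, fun hm hP => s.hP.ne_top ((Ideal.eq_top_iff_one _).2 ?_),
          fun t ht => absurd ht (Finset.notMem_empty t)⟩
        convert hP using 1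
        refine Subtype.ext ?_
        show (1 : K) = ι 1 / ι s.a ^ 0
        rw [map_one, pow_zero, div_one]
      | @insert t T htT ihT =>
        obtain ⟨n, c, hc, hcs, hcT⟩ := ihT ((Finset.subset_insert _ _).trans hT)
        have htS := hT (Finset.mem_insert_self t T)
        obtain ⟨k, d, hd, hds, hdt⟩ := exists_sep (hS s (Finset.mem_insert_self s S) t (Finset.mem_insert_of_mem htS))
          hf hs (hgood t htS)
        have hm : c * d ∈ maximalIdeal A ^ (n + k) := by rw [pow_add]; exact Ideal.mul_mem_mul hc hd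
        have e : ∀ p : Pt A K, (⟨_, div_mem_chart p.a hm⟩ : chart (K := K) p.a) =
            (⟨_, div_mem_chart p.a hc⟩ : chart (K := K) p.a) * ⟨_, div_mem_chart p.a hd⟩ := fun p => by
          refine Subtype.ext ?_
          show ι (c * d) / ι p.a ^ (n + k) = ι c / ι p.a ^ n * (ι d / ι p.a ^ k)
          rw [map_mul, pow_add, mul_div_mul_comm]
        refine ⟨n + k, c * d, hm, fun h hP => ?_, fun p hp => (not_good_iff p hm).2 ?_⟩
        · rcases s.hP.mem_or_mem (show _ * _ ∈ s.P from e s ▸ hP) with h1 | h1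
          · exact hcs hc h1
          · exact hds hd h1
        · rw [e p]
          rcases Finset.mem_insert.1 hp with rfl | hp
          · exact Ideal.mul_mem_left _ _ ((not_good_iff p hd).1 hdt)
          · exact Ideal.mul_mem_right _ _ ((not_good_iff p hc).1 (hcT p hp))
    obtain ⟨n, c, hc, hcs, hcS⟩ := hsep S subset_rfl
    -- add the powers of the two forms
    have hc' : c * s.a ∈ maximalIdeal A ^ (n + 1) := by rw [pow_succ]; exact Ideal.mul_mem_mul hc s.ha
    have hcs' : s.Good (n + 1) (c * s.a) := fun h hP => hcs hc (by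
      convert hP using 1
      refine Subtype.ext ?_
      show ι c / ι s.a ^ n = ι (c * s.a) / ι s.a ^ (n + 1)
      rw [map_mul, pow_succ, mul_div_mul_right _ _ (inj s.ha0)])
    have hcS' : ∀ t ∈ S, ¬ t.Good (n + 1) (c * s.a) := fun t ht => (not_good_iff t hc').2 (by
      have hm1 : s.a ∈ maximalIdeal A ^ 1 := by rw [pow_one]; exact s.ha
      convert t.P.mul_mem_right (⟨_, div_mem_chart t.a hm1⟩ : chart (K := K) t.a) ((not_good_iff t hc).1 (hcS t ht)) using 1
      refine Subtype.ext ?_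
      show ι (c * s.a) / ι t.a ^ (n + 1) = ι c / ι t.a ^ n * (ι s.a / ι t.a ^ 1)
      rw [map_mul, pow_succ, pow_one, mul_div_mul_comm])
    have hf' : f ^ (n + 1) ∈ maximalIdeal A ^ (D * (n + 1)) := by rw [pow_mul]; exact Ideal.pow_mem_pow hf _
    have hc'' : (c * s.a) ^ D ∈ maximalIdeal A ^ (D * (n + 1)) := by
      rw [mul_comm D, pow_mul]; exact Ideal.pow_mem_pow hc' _
    refine ⟨D * (n + 1), f ^ (n + 1) + (c * s.a) ^ D, Nat.mul_pos hD n.succ_pos, add_mem hf' hc'', fun t ht => ?_⟩
    intro h hP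
    have e : (⟨_, div_mem_chart t.a h⟩ : chart (K := K) t.a) =
        (⟨_, div_mem_chart t.a hf⟩ : chart (K := K) t.a) ^ (n + 1) + ⟨_, div_mem_chart t.a hc'⟩ ^ D := by
      refine Subtype.ext ?_
      show ι (f ^ (n + 1) + (c * s.a) ^ D) / ι t.a ^ (D * (n + 1)) =
        (ι f / ι t.a ^ D) ^ (n + 1) + (ι (c * s.a) / ι t.a ^ (n + 1)) ^ D
      rw [map_add, map_pow, map_pow, div_pow, div_pow, ← pow_mul, ← pow_mul, mul_comm (n + 1) D, add_div]
    change _ ∈ t.P at hP
    rw [show (⟨_, div_mem_chart t.a h⟩ : chart (K := K) t.a) = _ from e] at hP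
    rcases Finset.mem_insert.1 ht with rfl | htS
    · refine hcs' hc' (t.hP.mem_of_pow_mem D ?_)
      exact (Ideal.add_mem_iff_right _ (Ideal.pow_mem_of_mem _ ((not_good_iff t hf).1 hs) _ n.succ_pos)).1 hP
    · refine hgood t htS hf (t.hP.mem_of_pow_mem (n + 1) ?_)
      exact (Ideal.add_mem_iff_left _ (Ideal.pow_mem_of_mem _ ((not_good_iff t hc').1 (hcS' t htS)) _ hD)).1 hP

/-- The ideal of the exceptional divisor and some forms. -/
def condIdeal (a : A) (F : Set (Σ n : ℕ, ↥(maximalIdeal A ^ n))) : Ideal (chart (K := K) a) :=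
  Ideal.span (insert ⟨ι a, mem_chart_self a⟩ ((fun p => ⟨_, div_mem_chart a p.2.2⟩) '' F))

/-- Minimal primes of compatible ideals are compatible points. -/
theorem compat_of_minimal (F : Set (Σ n : ℕ, ↥(maximalIdeal A ^ n))) {s t : Pt A K}
    (hs : s.P ∈ (condIdeal s.a F).minimalPrimes) (ht : condIdeal t.a F ≤ t.P) : Compat s t := by
  classical
  by_cases hat : t.Good 1 s.a
  swap
  · exact Or.inl hat
  refine Or.inr ?_
  by_contra hcon
  push Not at hcon
  obtain ⟨hle, n₀, c₀, hc₀, hs₀, ht₀⟩ := hcon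
  have hpow : ∀ k, t.Good k (s.a ^ k) := fun k => by
    have := good_pow t (show s.a ∈ maximalIdeal A ^ 1 by rw [pow_one]; exact s.ha) hat k
    rwa [one_mul] at this
  -- membership of the transported prime
  let P' : Set (chart (K := K) s.a) :=
    {x | ∃ (n : ℕ) (c : A), c ∈ maximalIdeal A ^ n ∧ (x : K) = ι c / ι s.a ^ n ∧ ¬ t.Good n c}
  have hindep : ∀ (n k : ℕ) (c d : A) (hc : c ∈ maximalIdeal A ^ n) (hd : d ∈ maximalIdeal A ^ k),
      (ι c / ι s.a ^ n : K) = ι d / ι s.a ^ k → ¬ t.Good n c → ¬ t.Good k d := by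
    intro n k c d hc hd he hcP
    refine (not_good_iff t hd).2 ?_
    have hn : s.a ^ n ∈ maximalIdeal A ^ n := Ideal.pow_mem_pow s.ha n
    have hk : s.a ^ k ∈ maximalIdeal A ^ k := Ideal.pow_mem_pow s.ha k
    refine (t.hP.mem_or_mem (x := ⟨_, div_mem_chart t.a hd⟩) (y := ⟨_, div_mem_chart t.a hn⟩) ?_).resolve_right
      (hpow n hn)
    convert t.P.mul_mem_right (⟨_, div_mem_chart t.a hk⟩ : chart (K := K) t.a) ((not_good_iff t hc).1 hcP) using 1
    refine Subtype.ext ?_
    show ι d / ι t.a ^ k * (ι (s.a ^ n) / ι t.a ^ n) = ι c / ι t.a ^ n * (ι (s.a ^ k) / ι t.a ^ k)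
    rw [div_eq_div_iff (pow_ne_zero _ (inj s.ha0)) (pow_ne_zero _ (inj s.ha0))] at he
    have h1 := inj (K := K) t.ha0
    rw [map_pow, map_pow]
    field_simp
    linear_combination -he
  let Q : Ideal (chart (K := K) s.a) :=
    { carrier := P'
      zero_mem' := ⟨0, 0, by simp, by simp, (not_good_iff t (by simp)).2 (by
        convert t.P.zero_mem using 1
        refine Subtype.ext ?_
        show ι 0 / ι t.a ^ 0 = 0
        simp)⟩
      add_mem' := by
        rintro x y ⟨n, c, hc, hx, hcP⟩ ⟨k, d, hd, hy, hdP⟩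
        have hn : s.a ^ n ∈ maximalIdeal A ^ n := Ideal.pow_mem_pow s.ha n
        have hk : s.a ^ k ∈ maximalIdeal A ^ k := Ideal.pow_mem_pow s.ha k
        have hm : c * s.a ^ k + d * s.a ^ n ∈ maximalIdeal A ^ (n + k) := by
          rw [pow_add]
          exact add_mem (Ideal.mul_mem_mul hc hk) (by rw [mul_comm (maximalIdeal A ^ n)]; exact Ideal.mul_mem_mul hd hn)
        refine ⟨n + k, _, hm, ?_, (not_good_iff t hm).2 ?_⟩
        · show (x : K) + (y : K) = _
          have h1 := inj (K := K) s.ha0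
          rw [hx, hy, map_add, map_mul, map_mul, map_pow, map_pow, pow_add]
          field_simp
        · convert t.P.add_mem
            (t.P.mul_mem_right (⟨_, div_mem_chart t.a hk⟩ : chart (K := K) t.a) ((not_good_iff t hc).1 hcP))
            (t.P.mul_mem_right (⟨_, div_mem_chart t.a hn⟩ : chart (K := K) t.a) ((not_good_iff t hd).1 hdP)) using 1
          refine Subtype.ext ?_
          show ι (c * s.a ^ k + d * s.a ^ n) / ι t.a ^ (n + k) =
            ι c / ι t.a ^ n * (ι (s.a ^ k) / ι t.a ^ k) + ι d / ι t.a ^ k * (ι (s.a ^ n) / ι t.a ^ n)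
          have h1 := inj (K := K) t.ha0
          rw [map_add, map_mul, map_mul, pow_add]
          field_simp
      smul_mem' := by
        rintro r x ⟨n, c, hc, hx, hcP⟩
        obtain ⟨N, hN⟩ := exists_rep s.ha s.ha0 r.2
        obtain ⟨d, hd, hr⟩ := hN N le_rfl
        have hm : d * c ∈ maximalIdeal A ^ (N + n) := by rw [pow_add]; exact Ideal.mul_mem_mul hd hc
        refine ⟨N + n, _, hm, ?_, (not_good_iff t hm).2 ?_⟩
        · show (r : K) * (x : K) = _
          rw [hx, hr, map_mul, pow_add, mul_div_mul_comm]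
        · convert t.P.mul_mem_left (⟨_, div_mem_chart t.a hd⟩ : chart (K := K) t.a) ((not_good_iff t hc).1 hcP) using 1
          refine Subtype.ext ?_
          show ι (d * c) / ι t.a ^ (N + n) = ι d / ι t.a ^ N * (ι c / ι t.a ^ n)
          rw [map_mul, pow_add, mul_div_mul_comm] }
  have hQle : Q ≤ s.P := by
    rintro x ⟨n, c, hc, hx, hcP⟩
    by_contra hxP
    refine hcP (hle n c hc fun h hm => hxP ?_)
    convert hm using 1
    exact Subtype.ext hx
  have hQp : Q.IsPrime := by
    refine ⟨fun e => s.hP.ne_top (top_le_iff.1 (e ▸ hQle)), ?_⟩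
    intro x y ⟨n, c, hc, hxy, hcP⟩
    obtain ⟨N, hN⟩ := exists_rep s.ha s.ha0 x.2
    obtain ⟨M, hM⟩ := exists_rep s.ha s.ha0 y.2
    obtain ⟨p, hp, hx⟩ := hN N le_rfl
    obtain ⟨q, hq, hy⟩ := hM M le_rfl
    have hm : p * q ∈ maximalIdeal A ^ (N + M) := by rw [pow_add]; exact Ideal.mul_mem_mul hp hq
    have h1 := hindep n (N + M) c (p * q) hc hm (by
      rw [← hxy, map_mul, pow_add, mul_div_mul_comm, ← hx, ← hy]; rfl) hcP
    rw [not_good_iff t hm] at h1
    rcases t.hP.mem_or_mem (x := ⟨_, div_mem_chart t.a hp⟩) (y := ⟨_, div_mem_chart t.a hq⟩) (by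
      convert h1 using 1
      refine Subtype.ext ?_
      show ι p / ι t.a ^ N * (ι q / ι t.a ^ M) = ι (p * q) / ι t.a ^ (N + M)
      rw [map_mul, pow_add, mul_div_mul_comm]) with h | h
    · exact Or.inl ⟨N, p, hp, hx, (not_good_iff t hp).2 h⟩
    · exact Or.inr ⟨M, q, hq, hy, (not_good_iff t hq).2 h⟩
  have hQc : condIdeal s.a F ≤ Q := by
    refine Ideal.span_le.2 (Set.insert_subset ?_ ?_)
    · have h0 : s.a ∈ maximalIdeal A ^ 0 := by simp
      refine ⟨0, s.a, h0, by simp, (not_good_iff t h0).2 ?_⟩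
      have h1 : (⟨ι t.a, mem_chart_self t.a⟩ : chart (K := K) t.a) ∈ t.P :=
        ht (Ideal.subset_span (Set.mem_insert _ _))
      convert t.P.mul_mem_left (⟨_, div_mem_chart t.a (show s.a ∈ maximalIdeal A ^ 1 by rw [pow_one]; exact s.ha)⟩ :
        chart (K := K) t.a) h1 using 1
      refine Subtype.ext ?_
      show ι s.a / ι t.a ^ 0 = ι s.a / ι t.a ^ 1 * ι t.a
      rw [pow_zero, div_one, pow_one, div_mul_cancel₀ _ (inj t.ha0)]
    · rintro _ ⟨p, hp, rfl⟩
      exact ⟨p.1, p.2, p.2.2, rfl, (not_good_iff t p.2.2).2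
        (ht (Ideal.subset_span (Set.mem_insert_of_mem _ ⟨p, hp, rfl⟩)))⟩
  -- minimality forces equality
  have hPQ : s.P ≤ Q := hs.2 ⟨hQp, hQc⟩ hQle
  obtain ⟨n, c, hc, hx, hcP⟩ := hPQ ((not_good_iff s hc₀).1 hs₀)
  exact hindep n n₀ c c₀ hc hc₀ hx.symm hcP ht₀

theorem sup_pow_le {m I J : Ideal A} (hI : I ≤ m) (hJ : J ≤ m) (p q : ℕ) :
    (I ⊔ J) ^ (p + q) ≤ I ^ p * m ^ q ⊔ J ^ q * m ^ p := by
  rw [← Submodule.add_eq_sup, add_pow, Ideal.sum_eq_sup]
  refine Finset.sup_le fun i hi => ?_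
  refine (Ideal.mul_le_left).trans ?_
  by_cases h : p ≤ i
  · refine le_sup_of_le_left ?_
    rw [show I ^ i = I ^ p * I ^ (i - p) by rw [← pow_add]; congr 1; omega, mul_assoc]
    refine Ideal.mul_mono_right ((Ideal.mul_mono (Ideal.pow_right_mono hI _) (Ideal.pow_right_mono hJ _)).trans ?_)
    rw [← pow_add]
    exact Ideal.pow_le_pow_right (by have := Finset.mem_range.1 hi; omega)
  · refine le_sup_of_le_right ?_
    rw [show J ^ (p + q - i) = J ^ q * J ^ (p - i) by rw [← pow_add]; congr 1; omega, mul_left_comm]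
    refine Ideal.mul_mono_right ((Ideal.mul_mono (Ideal.pow_right_mono hI _) (Ideal.pow_right_mono hJ _)).trans ?_)
    rw [← pow_add]
    exact Ideal.pow_le_pow_right (by omega)

/-- Generators whose powers lie in a bound force a power of the ideal into it. -/
theorem pow_le_of_forall {m : Ideal A} (M : ℕ) : ∀ (G : Finset A), (∀ a ∈ G, a ∈ m) →
    Ideal.span (G : Set A) ^ (M * G.card + 1) ≤ ⨆ a ∈ G, Ideal.span {a ^ M} * m ^ (M * (G.card - 1) + 1) := by
  classical
  intro G hG
  induction G using Finset.induction with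
  | empty => simp
  | @insert a G haG ih =>
    have hGm : Ideal.span (G : Set A) ≤ m := Ideal.span_le.2 fun x hx => hG x (Finset.mem_insert_of_mem hx)
    rw [Finset.coe_insert, Ideal.span_insert, Finset.card_insert_of_notMem haG,
      show M * (G.card + 1) + 1 = M + (M * G.card + 1) by ring, Nat.add_sub_cancel]
    refine (sup_pow_le ((Ideal.span_singleton_le_iff_mem _).2 (hG a (Finset.mem_insert_self a G))) hGm M _).trans
      (sup_le ?_ ?_)
    · rw [Ideal.span_singleton_pow]
      exact le_iSup₂_of_le a (Finset.mem_insert_self a G) le_rfl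
    · refine (Ideal.mul_mono_left (ih fun x hx => hG x (Finset.mem_insert_of_mem hx))).trans ?_
      simp only [Ideal.iSup_mul]
      refine iSup₂_le fun b hb => le_iSup₂_of_le b (Finset.mem_insert_of_mem hb) ?_
      rw [mul_assoc, ← pow_add]
      refine Ideal.mul_mono_right (Ideal.pow_le_pow_right ?_)
      have h1 : 1 ≤ G.card := Finset.card_pos.2 ⟨b, hb⟩
      obtain ⟨k, hk⟩ := Nat.exists_eq_add_of_le h1
      rw [hk, Nat.add_sub_cancel_left]
      ring_nf
      omega

variable (K) in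
include K in
/-- A two-generated reduction of a power of the maximal ideal. -/
theorem exists_reduction (hA : ringKrullDim A ≤ 2) :
    ∃ (D : ℕ) (f g : A), 0 < D ∧ f ∈ maximalIdeal A ^ D ∧ g ∈ maximalIdeal A ^ D ∧
      ∃ M, D ≤ M ∧ maximalIdeal A ^ M = Ideal.span {f, g} * maximalIdeal A ^ (M - D) := by
  classical
  obtain ⟨G₀, hG₀⟩ := (IsNoetherian.noetherian (maximalIdeal A) : (maximalIdeal A).FG)
  let G := G₀.filter (· ≠ 0)
  have hGm : ∀ a ∈ G, a ∈ maximalIdeal A := fun a ha => hG₀ ▸ Submodule.subset_span (Finset.mem_filter.1 ha).1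
  have hG : Ideal.span (G : Set A) = maximalIdeal A := by
    refine le_antisymm (Ideal.span_le.2 hGm) (hG₀ ▸ Submodule.span_le.2 fun a ha => ?_)
    by_cases h0 : a = 0
    · subst h0; exact zero_mem _
    · exact Ideal.subset_span (Finset.mem_coe.2 (Finset.mem_filter.2 ⟨ha, h0⟩))
  -- points: minimal primes of the chart ideals
  have hpts : ∀ F : Set (Σ n : ℕ, ↥(maximalIdeal A ^ n)), ∃ (D : ℕ) (f : A) (_ : 0 < D) (hf : f ∈ maximalIdeal A ^ D),
      ∀ (a : A) (_ : a ∈ G) (P : Ideal (chart (K := K) a)), P ∈ (condIdeal a F).minimalPrimes →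
        (⟨_, div_mem_chart a hf⟩ : chart (K := K) a) ∉ P := by
    intro F
    let V : Set (Pt A K) := {s | s.a ∈ G ∧ s.P ∈ (condIdeal s.a F).minimalPrimes}
    have hV : V.Finite := by
      have : V = ⋃ a ∈ (G : Set A), {s : Pt A K | s.a = a ∧ s.P ∈ (condIdeal s.a F).minimalPrimes} := by
        ext s; simp [V]
      rw [this]
      refine G.finite_toSet.biUnion fun a ha => ?_
      haveI := isNoetherian_chart (K := K) a
      refine ((Ideal.finite_minimalPrimes_of_isNoetherianRing _ (condIdeal (K := K) a F)).dependent_image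
        fun P hP => (⟨a, hGm a ha, (Finset.mem_filter.1 ha).2, P, hP.1.1⟩ : Pt A K)).subset ?_
      rintro ⟨b, hb, hb0, P, hP⟩ ⟨he, hmin⟩
      change b = a at he
      subst he
      exact ⟨P, hmin, rfl⟩
    obtain ⟨D, f, hD, hf, hgood⟩ := exists_form hV.toFinset fun s hs t ht =>
      compat_of_minimal F (hV.mem_toFinset.1 hs).2 (hV.mem_toFinset.1 ht).2.1.2
    exact ⟨D, f, hD, hf, fun a ha P hP =>
      hgood ⟨a, hGm a ha, (Finset.mem_filter.1 ha).2, P, hP.1.1⟩ (hV.mem_toFinset.2 ⟨ha, hP⟩) hf⟩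
  obtain ⟨D, f, hD, hf, hfgood⟩ := hpts ∅
  let p₀ : Σ n : ℕ, ↥(maximalIdeal A ^ n) := ⟨D, ⟨f, hf⟩⟩
  obtain ⟨E, g, hE, hg, hggood⟩ := hpts {p₀}
  have hf' : f ^ E ∈ maximalIdeal A ^ (D * E) := by rw [pow_mul]; exact Ideal.pow_mem_pow hf _
  have hg' : g ^ D ∈ maximalIdeal A ^ (D * E) := by rw [mul_comm D, pow_mul]; exact Ideal.pow_mem_pow hg _
  -- the forms have no common zero on the exceptional divisor
  have hunit : ∀ a ∈ G, ∃ M, ∀ n, M ≤ n →
      a ^ n ∈ maximalIdeal A ^ (n + 1) ⊔ Ideal.span {f ^ E, g ^ D} * maximalIdeal A ^ (n - D * E) ∧ D * E ≤ n := by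
    intro a ha
    have ha0 : a ≠ 0 := (Finset.mem_filter.1 ha).2
    haveI := isNoetherian_chart (K := K) a
    let xa : chart (K := K) a := ⟨ι a, mem_chart_self a⟩
    let xf : chart (K := K) a := ⟨_, div_mem_chart a hf'⟩
    let xg : chart (K := K) a := ⟨_, div_mem_chart a hg'⟩
    have htop : Ideal.span {xa, xf, xg} = ⊤ := by
      by_contra hne
      obtain ⟨Q, hQ, hle⟩ := Ideal.exists_le_maximal _ hne
      haveI := hQ.isPrime
      have hfQ : (⟨_, div_mem_chart a hf⟩ : chart (K := K) a) ∈ Q := hQ.isPrime.mem_of_pow_mem E (by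
        convert hle (Ideal.subset_span (by simp : xf ∈ ({xa, xf, xg} : Set _))) using 1
        refine Subtype.ext ?_
        show (ι f / ι a ^ D) ^ E = ι (f ^ E) / ι a ^ (D * E)
        rw [map_pow, div_pow, pow_mul])
      have hgQ : (⟨_, div_mem_chart a hg⟩ : chart (K := K) a) ∈ Q := hQ.isPrime.mem_of_pow_mem D (by
        convert hle (Ideal.subset_span (by simp : xg ∈ ({xa, xf, xg} : Set _))) using 1
        refine Subtype.ext ?_
        show (ι g / ι a ^ E) ^ D = ι (g ^ D) / ι a ^ (D * E)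
        rw [map_pow, div_pow, mul_comm D, pow_mul])
      have h1 : condIdeal a {p₀} ≤ Q := by
        refine Ideal.span_le.2 (Set.insert_subset (hle (Ideal.subset_span (by simp : xa ∈ _))) ?_)
        rw [Set.image_singleton, Set.singleton_subset_iff]
        exact hfQ
      obtain ⟨P₁, hP₁, hP₁Q⟩ := Ideal.exists_minimalPrimes_le h1
      haveI := hP₁.1.1
      have h0 : condIdeal a ∅ ≤ P₁ := le_trans
        (Ideal.span_mono (Set.insert_subset_insert (by rw [Set.image_empty]; exact Set.empty_subset _))) hP₁.1.2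
      obtain ⟨P₀, hP₀, hP₀P₁⟩ := Ideal.exists_minimalPrimes_le h0
      haveI := hP₀.1.1
      have hne0 : P₀ ≠ ⊥ := fun e => by
        have hxa : xa ∈ P₀ := hP₀.1.2 (Ideal.subset_span (Set.mem_insert _ _))
        rw [e, Ideal.mem_bot] at hxa
        exact inj (K := K) ha0 (congrArg (fun x : chart (K := K) a => (x : K)) hxa)
      have hlt0 : P₀ < P₁ := lt_of_le_of_ne hP₀P₁ fun e => hfgood a ha P₀ hP₀
        (e ▸ hP₁.1.2 (Ideal.subset_span (Set.mem_insert_of_mem _ ⟨p₀, rfl, rfl⟩)))
      have hlt1 : P₁ < Q := lt_of_le_of_ne hP₁Q fun e => hggood a ha P₁ hP₁ (e ▸ hgQ)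
      have i1 := Ideal.height_strict_mono_of_isPrime (bot_lt_iff_ne_bot.2 hne0)
      have i2 := Ideal.height_strict_mono_of_isPrime hlt0
      have i3 := Ideal.height_strict_mono_of_isPrime hlt1
      rw [Ideal.height_bot] at i1
      have j1 := Order.add_one_le_of_lt i1
      have j2 := (add_le_add j1 le_rfl).trans (Order.add_one_le_of_lt i2)
      have j3 := ((add_le_add j2 le_rfl).trans (Order.add_one_le_of_lt i3)).trans
        (height_le hA (hGm a ha) ha0 Q)
      exact absurd j3 (by decide)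
    obtain ⟨u, v, w, huvw⟩ : ∃ u v w, u * xa + v * xf + w * xg = 1 := by
      have h1 := (Ideal.eq_top_iff_one _).1 htop
      obtain ⟨u, z, hz, hu⟩ := Ideal.mem_span_insert.1 h1
      obtain ⟨v, w, hvw⟩ := Ideal.mem_span_pair.1 hz
      exact ⟨u, v, w, by rw [hu, ← hvw]; ring⟩
    obtain ⟨Nu, hu⟩ := exists_rep (hGm a ha) ha0 u.2
    obtain ⟨Nv, hv⟩ := exists_rep (hGm a ha) ha0 v.2
    obtain ⟨Nw, hw⟩ := exists_rep (hGm a ha) ha0 w.2
    refine ⟨max Nu (max Nv Nw) + D * E, fun n hn => ⟨?_, by omega⟩⟩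
    obtain ⟨cu, hcu, eu⟩ := hu n (by omega)
    obtain ⟨cv, hcv, ev⟩ := hv (n - D * E) (by omega)
    obtain ⟨cw, hcw, ew⟩ := hw (n - D * E) (by omega)
    have hK : a ^ n = cu * a + (cv * f ^ E + cw * g ^ D) := by
      apply IsFractionRing.injective A K
      have h1 : (u : K) * ι a + (v : K) * (ι (f ^ E) / ι a ^ (D * E)) + (w : K) * (ι (g ^ D) / ι a ^ (D * E)) = 1 :=
        congrArg Subtype.val huvw
      rw [eu, ev, ew, div_mul_div_comm, div_mul_div_comm, ← pow_add, Nat.sub_add_cancel (by omega),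
        div_mul_eq_mul_div, ← add_div, ← add_div, div_eq_one_iff_eq (pow_ne_zero _ (inj ha0))] at h1
      rw [map_pow, ← h1, map_add, map_add, map_mul, map_mul, map_mul, map_pow]
      ring
    rw [hK]
    refine Submodule.add_mem_sup (by rw [pow_succ]; exact Ideal.mul_mem_mul hcu (hGm a ha)) ?_
    exact add_mem
      (by rw [mul_comm cv]; exact Ideal.mul_mem_mul (Ideal.subset_span (Set.mem_insert (f ^ E) {g ^ D})) hcv)
      (by rw [mul_comm cw]; exact Ideal.mul_mem_mul (Ideal.subset_span (Set.mem_insert_of_mem (f ^ E) rfl)) hcw)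
  choose! Mf hMf using hunit
  let M₁ := G.sup Mf + D * E + 1
  let M := M₁ * G.card + 1 + D * E
  refine ⟨D * E, f ^ E, g ^ D, Nat.mul_pos hD hE, hf', hg', M, Nat.le_add_left _ _, le_antisymm ?_ ?_⟩
  · refine Submodule.le_of_le_smul_of_le_jacobson_bot (IsNoetherian.noetherian _) (maximalIdeal_le_jacobson _) ?_
    rw [smul_eq_mul, ← pow_succ']
    refine le_trans ?_ (sup_comm _ _).le
    have h1 := pow_le_of_forall M₁ G hGm
    rw [hG] at h1
    calc maximalIdeal A ^ M = maximalIdeal A ^ (M₁ * G.card + 1) * maximalIdeal A ^ (D * E) := by rw [← pow_add]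
      _ ≤ (⨆ a ∈ G, Ideal.span {a ^ M₁} * maximalIdeal A ^ (M₁ * (G.card - 1) + 1)) * maximalIdeal A ^ (D * E) :=
          Ideal.mul_mono_left h1
      _ ≤ _ := by
        simp only [Ideal.iSup_mul]
        refine iSup₂_le fun a ha => ?_
        obtain ⟨hmem, hDE⟩ := hMf a ha M₁ (by have := Finset.le_sup (f := Mf) ha; omega)
        rw [mul_assoc, ← pow_add]
        refine (Ideal.mul_mono_left ((Ideal.span_singleton_le_iff_mem _).2 hmem)).trans ?_
        obtain ⟨k, hk⟩ := Nat.exists_eq_add_of_le (Finset.card_pos.2 ⟨a, ha⟩ : 1 ≤ G.card)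
        have hsum : M₁ + (M₁ * (G.card - 1) + 1 + D * E) = M := by
          show _ = M₁ * G.card + 1 + D * E
          rw [hk, Nat.add_sub_cancel_left]
          ring
        rw [Ideal.sup_mul, mul_assoc, ← pow_add, ← pow_add]
        exact sup_le_sup (Ideal.pow_le_pow_right (by omega)) (Ideal.mul_mono_right (Ideal.pow_le_pow_right (by omega)))
  · refine (Ideal.mul_mono_left (Ideal.span_le.2 ?_)).trans (by
      rw [← pow_add, Nat.add_sub_cancel' (Nat.le_add_left _ _ : D * E ≤ M)])
    rintro x (rfl | rfl)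
    · exact hf'
    · exact hg'

end Groth.Agent.RatSing
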