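import Mathlib
import Groth.Agent.RatSing.Reduction

/-!
# Powers of the maximal ideal from a two-chart modification with split overlaps
-/

set_option autoImplicit false
set_option linter.style.haveILetI false
set_option linter.unusedSectionVars false
set_option maxHeartbeats 400000

universe u

open IsLocalRing

noncomputable section

namespace Groth.Agent.RatSing

variable {A : Type u} [CommRing A] [IsDomain A] [IsLocalRing A] [IsNoetherianRing A]
  {K : Type u} [Field K] [Algebra A K] [IsFractionRing A K]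

local notation "ι" => algebraMap A K

variable (A) in
/-- The intersection of the valuation rings containing the ring and a set. -/
def ic (s : Set K) : Subring K :=
  ⨅ V : {V : ValuationSubring K // (∀ a : A, ι a ∈ V) ∧ ∀ x ∈ s, x ∈ V}, V.1.toSubring

theorem mem_ic {s : Set K} {x : K} :
    x ∈ ic A s ↔ ∀ V : ValuationSubring K, (∀ a : A, ι a ∈ V) → (∀ y ∈ s, y ∈ V) → x ∈ V := by
  rw [ic, Subring.mem_iInf]
  exact ⟨fun h V h1 h2 => h ⟨V, h1, h2⟩, fun h V => h V.1 V.2.1 V.2.2⟩

theorem map_mem_ic (s : Set K) (a : A) : ι a ∈ ic A s := mem_ic.2 fun _ h _ => h a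

theorem ic_mono {s t : Set K} (h : s ⊆ t) : ic A s ≤ ic A t := fun _ hx =>
  mem_ic.2 fun V h1 h2 => mem_ic.1 hx V h1 fun y hy => h2 y (h hy)

variable (A) in
/-- The extension of a power of the maximal ideal. -/
def Pw (n : ℕ) (s : Set K) : AddSubgroup K :=
  AddSubgroup.closure {y | ∃ c ∈ maximalIdeal A ^ n, ∃ b ∈ ic A s, y = ι c * b}

theorem mem_Pw {n : ℕ} {s : Set K} {c : A} (hc : c ∈ maximalIdeal A ^ n) {b : K} (hb : b ∈ ic A s) :
    ι c * b ∈ Pw A n s := AddSubgroup.subset_closure ⟨c, hc, b, hb, rfl⟩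

theorem Pw_le_ic (n : ℕ) (s : Set K) : ∀ x ∈ Pw A n s, x ∈ ic A s := fun x hx => by
  induction hx using AddSubgroup.closure_induction with
  | mem y hy => obtain ⟨c, -, b, hb, rfl⟩ := hy; exact mul_mem (map_mem_ic s c) hb
  | zero => exact zero_mem _
  | add a b _ _ ha hb => exact add_mem ha hb
  | neg a _ ha => exact neg_mem ha

theorem Pw_mono (n : ℕ) {s t : Set K} (h : s ⊆ t) : ∀ x ∈ Pw A n s, x ∈ Pw A n t := fun x hx => by
  induction hx using AddSubgroup.closure_induction with
  | mem y hy => obtain ⟨c, hc, b, hb, rfl⟩ := hy; exact mem_Pw hc (ic_mono h hb)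
  | zero => exact zero_mem _
  | add a b _ _ ha hb => exact add_mem ha hb
  | neg a _ ha => exact neg_mem ha

theorem mul_Pw {k n : ℕ} {s : Set K} {c : A} (hc : c ∈ maximalIdeal A ^ k) {x : K} (hx : x ∈ Pw A n s) :
    ι c * x ∈ Pw A (k + n) s := by
  induction hx using AddSubgroup.closure_induction with
  | mem y hy =>
    obtain ⟨d, hd, b, hb, rfl⟩ := hy
    rw [← mul_assoc, ← map_mul]
    exact mem_Pw (by rw [pow_add]; exact Ideal.mul_mem_mul hc hd) hb
  | zero => rw [mul_zero]; exact zero_mem _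
  | add a b _ _ ha hb => rw [mul_add]; exact add_mem ha hb
  | neg a _ ha => rw [mul_neg]; exact neg_mem ha

theorem Pw_mul {n : ℕ} {s : Set K} {b : K} (hb : b ∈ ic A s) {x : K} (hx : x ∈ Pw A n s) : x * b ∈ Pw A n s := by
  induction hx using AddSubgroup.closure_induction with
  | mem y hy =>
    obtain ⟨d, hd, b', hb', rfl⟩ := hy
    rw [mul_assoc]
    exact mem_Pw hd (mul_mem hb' hb)
  | zero => rw [zero_mul]; exact zero_mem _
  | add a c _ _ ha hc => rw [add_mul]; exact add_mem ha hc
  | neg a _ ha => rw [neg_mul]; exact neg_mem ha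

/-- The data of a reduction. -/
structure Red (A : Type u) [CommRing A] [IsLocalRing A] (D : ℕ) (f g : A) : Prop where
  pos : 0 < D
  f_mem : f ∈ maximalIdeal A ^ D
  g_mem : g ∈ maximalIdeal A ^ D
  f_ne : f ≠ 0
  g_ne : g ≠ 0
  eq : ∃ M, D ≤ M ∧ maximalIdeal A ^ M = Ideal.span {f, g} * maximalIdeal A ^ (M - D)

theorem Red.symm {D : ℕ} {f g : A} (h : Red A D f g) : Red A D g f :=
  ⟨h.pos, h.g_mem, h.f_mem, h.g_ne, h.f_ne, by rw [Ideal.span_pair_comm]; exact h.eq⟩

variable (K) in
include K in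
theorem exists_red (hA : ringKrullDim A = 2) : ∃ D f g, Red A D f g := by
  obtain ⟨D, f, g, hD, hf, hg, M, hM, heq⟩ := exists_reduction (A := A) K hA.le
  have key : ∀ c : A, c ∈ maximalIdeal A → ¬ maximalIdeal A ^ M ≤ Ideal.span {c} := by
    intro c hcm hle
    have hc : Ideal.span {c} ≠ ⊤ := fun e => (mem_maximalIdeal c).1 hcm (Ideal.span_singleton_eq_top.1 e)
    have hmin : maximalIdeal A ∈ (Ideal.span {c}).minimalPrimes := by
      refine ⟨⟨(maximalIdeal.isMaximal A).isPrime, ?_⟩, fun P hP hPm x hx => hP.1.mem_of_pow_mem M (hP.2 (hle (Ideal.pow_mem_pow hx M)))⟩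
      exact le_maximalIdeal hc
    have h1 := Ideal.height_le_one_of_isPrincipal_of_mem_minimalPrimes (Ideal.span {c}) (maximalIdeal A) hmin
    have h2 := IsLocalRing.maximalIdeal_height_eq_ringKrullDim (R := A)
    rw [hA] at h2
    exact absurd ((WithBot.coe_eq_coe.1 (h2.trans (by rfl)) : (maximalIdeal A).height = 2) ▸ h1) (by decide)
  refine ⟨D, f, g, hD, hf, hg, fun e => key g (Ideal.pow_le_self hD.ne' hg) ?_, fun e => key f (Ideal.pow_le_self hD.ne' hf) ?_, M, hM, heq⟩
  · rw [heq, e, Ideal.span_insert_zero]; exact Ideal.mul_le_left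
  · rw [heq, e, Set.pair_comm, Ideal.span_insert_zero]; exact Ideal.mul_le_left

variable {D : ℕ} {f g : A}

/-- In a valuation ring the maximal ideal is generated by one element. -/
theorem exists_gen_valuation (h : Red A D f g) (V : ValuationSubring K) (hV : ∀ a : A, ι a ∈ V) :
    ∃ a₀ ∈ maximalIdeal A, a₀ ≠ 0 ∧ ∀ n, ∀ c ∈ maximalIdeal A ^ n, ι c / ι a₀ ^ n ∈ V := by
  classical
  obtain ⟨G, hG⟩ := (IsNoetherian.noetherian (maximalIdeal A) : (maximalIdeal A).FG)
  have hne : (G.filter (· ≠ 0)).Nonempty := by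
    by_contra he
    rw [Finset.not_nonempty_iff_eq_empty, Finset.filter_eq_empty_iff] at he
    have h0 : maximalIdeal A = ⊥ := by
      rw [← hG, Ideal.submodule_span_eq, Ideal.span_eq_bot]
      exact fun x hx => not_not.1 (he hx)
    have := h.f_mem
    rw [h0, ← Ideal.zero_eq_bot, zero_pow h.pos.ne', Ideal.zero_eq_bot, Ideal.mem_bot] at this
    exact h.f_ne this
  obtain ⟨a₀, ha₀, hmax⟩ := Finset.exists_max_image (G.filter (· ≠ 0)) (fun c => V.valuation (ι c)) hne
  obtain ⟨ha₀G, ha₀0⟩ := Finset.mem_filter.1 ha₀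
  have hne0 := inj (K := K) ha₀0
  refine ⟨a₀, hG ▸ Submodule.subset_span ha₀G, ha₀0, fun n => ?_⟩
  have h1 : ∀ c ∈ maximalIdeal A, ι c / ι a₀ ∈ V := by
    intro c hc
    rw [← hG] at hc
    induction hc using Submodule.span_induction with
    | mem c hc =>
      by_cases hc0 : c = 0
      · rw [hc0, map_zero, zero_div]; exact zero_mem _
      · rw [← V.valuation_le_one_iff, map_div₀]
        exact div_le_one_of_le₀ (hmax c (Finset.mem_filter.2 ⟨hc, hc0⟩)) zero_le'
    | zero => rw [map_zero, zero_div]; exact zero_mem _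
    | add p q _ _ hp hq => rw [map_add, add_div]; exact add_mem hp hq
    | smul r p _ hp => rw [smul_eq_mul, map_mul, mul_div_assoc]; exact mul_mem (hV r) hp
  induction n with
  | zero => intro c _; rw [pow_zero, div_one]; exact hV c
  | succ n ih =>
    intro c hc
    rw [pow_succ] at hc
    induction hc using Submodule.mul_induction_on' with
    | mem_mul_mem p hp q hq => rw [map_mul, pow_succ, mul_div_mul_comm]; exact mul_mem (ih p hp) (h1 q hq)
    | add p _ q _ hp hq => rw [map_add, add_div]; exact add_mem hp hq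

/-- On the chart of `f` the forms are divisible by `f`. -/
theorem div_f_mem (h : Red A D f g) {z : A} (hz : z ∈ maximalIdeal A ^ D) : ι z / ι f ∈ ic A {ι g / ι f} := by
  refine mem_ic.2 fun V hV hs => ?_
  obtain ⟨a₀, ha₀, ha₀0, hdiv⟩ := exists_gen_valuation h V hV
  obtain ⟨M, hM, heq⟩ := h.eq
  have hne0 := inj (K := K) ha₀0
  have hf0 := inj (K := K) h.f_ne
  have key : ∀ x ∈ Ideal.span {f, g} * maximalIdeal A ^ (M - D), ι x / (ι f * ι a₀ ^ (M - D)) ∈ V := by
    intro x hx
    induction hx using Submodule.mul_induction_on' with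
    | mem_mul_mem p hp q hq =>
      obtain ⟨u, v, rfl⟩ := Ideal.mem_span_pair.1 hp
      rw [map_mul, mul_div_mul_comm]
      refine mul_mem ?_ (hdiv _ q hq)
      rw [map_add, map_mul, map_mul, add_div, mul_div_assoc, mul_div_assoc, div_self hf0, mul_one]
      exact add_mem (hV u) (mul_mem (hV v) (hs _ rfl))
    | add p _ q _ hp hq => rw [map_add, add_div]; exact add_mem hp hq
  have h1 := key (a₀ ^ M) (heq ▸ Ideal.pow_mem_pow ha₀ M)
  have e : ι z / ι f = ι z / ι a₀ ^ D * (ι (a₀ ^ M) / (ι f * ι a₀ ^ (M - D))) := by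
    rw [map_pow]
    conv_rhs => rw [show M = D + (M - D) by omega, pow_add, Nat.add_sub_cancel_left,
      mul_div_mul_right _ _ (pow_ne_zero _ hne0)]
    field_simp
  rw [e]
  exact mul_mem (hdiv D z hz) h1

/-- An element of all valuation rings over a normal ring belongs to it. -/
theorem exists_of_mem_both [IsIntegrallyClosed A] {x : K} (h1 : x ∈ ic A {ι g / ι f}) (h2 : x ∈ ic A {ι f / ι g}) :
    ∃ a, ι a = x := by
  haveI : IsIntegrallyClosedIn (algebraMap A K).range K := by
    rw [Subring.isIntegrallyClosedIn_iff]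
    intro c ⟨p, hp, hpc⟩
    obtain ⟨P, hP, -, hPm⟩ := Polynomial.lifts_and_degree_eq_and_monic
      (f := (algebraMap A K).rangeRestrict)
      (Polynomial.mem_lifts_of_surjective (algebraMap A K).rangeRestrict_surjective p) hp
    have h : Polynomial.eval₂ (algebraMap A K) c P = 0 := by
      rw [← hpc, ← hP, Polynomial.eval₂_map]; rfl
    obtain ⟨a, ha⟩ := IsIntegrallyClosed.isIntegral_iff.1 (⟨P, hPm, h⟩ : IsIntegral A c)
    exact ⟨a, ha⟩
  by_contra hx
  obtain ⟨V, hV, hxV⟩ := Subring.exists_le_valuationSubring_of_isIntegrallyClosedIn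
    (R := (algebraMap A K).range) (x := x) fun ⟨a, ha⟩ => hx ⟨a, ha⟩
  rcases V.mem_or_inv_mem (ι g / ι f) with h | h
  · exact hxV (mem_ic.1 h1 V (fun a => hV ⟨a, rfl⟩) fun y hy => (Set.mem_singleton_iff.1 hy) ▸ h)
  · rw [inv_div] at h
    exact hxV (mem_ic.1 h2 V (fun a => hV ⟨a, rfl⟩) fun y hy => (Set.mem_singleton_iff.1 hy) ▸ h)

variable (A) in
/-- The overlap splits. -/
def Split (f g : A) : Prop :=
  ∀ c ∈ ic A {ι g / ι f, ι f / ι g}, ∃ a ∈ ic A ({ι g / ι f} : Set K), ∃ b ∈ ic A ({ι f / ι g} : Set K), c = a - b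

theorem split_Pw {f g : A} (hs : Split A (K := K) f g) (n : ℕ) {x : K} (hx : x ∈ Pw A n {ι g / ι f, ι f / ι g}) :
    ∃ p ∈ Pw A n {ι g / ι f}, ∃ q ∈ Pw A n {ι f / ι g}, x = p - q := by
  induction hx using AddSubgroup.closure_induction with
  | mem y hy =>
    obtain ⟨c, hc, b, hb, rfl⟩ := hy
    obtain ⟨p, hp, q, hq, rfl⟩ := hs b hb
    exact ⟨_, mem_Pw hc hp, _, mem_Pw hc hq, mul_sub _ _ _⟩
  | zero => exact ⟨0, zero_mem _, 0, zero_mem _, (sub_zero _).symm⟩
  | add a b _ _ ha hb =>
    obtain ⟨p, hp, q, hq, rfl⟩ := ha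
    obtain ⟨p', hp', q', hq', rfl⟩ := hb
    exact ⟨p + p', add_mem hp hp', q + q', add_mem hq hq', by ring⟩
  | neg a _ ha =>
    obtain ⟨p, hp, q, hq, rfl⟩ := ha
    exact ⟨-p, neg_mem hp, -q, neg_mem hq, by ring⟩

/-- Products of two forms divide everything of the same degree on the overlap. -/
theorem div_fg_mem (h : Red A D f g) {k : ℕ} {c : A} (hc : c ∈ maximalIdeal A ^ (2 * D + k)) :
    ι c / (ι f * ι g) ∈ Pw A k {ι g / ι f, ι f / ι g} := by
  rw [pow_add] at hc
  induction hc using Submodule.mul_induction_on' with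
  | mem_mul_mem p hp q hq =>
    rw [two_mul, pow_add] at hp
    induction hp using Submodule.mul_induction_on' with
    | mem_mul_mem p₁ hp₁ p₂ hp₂ =>
      rw [mul_comm (p₁ * p₂) q, map_mul, mul_div_assoc, map_mul, mul_div_mul_comm]
      refine mem_Pw hq (mul_mem (ic_mono (by simp) (div_f_mem h hp₁)) (ic_mono (by simp) (div_f_mem h.symm hp₂)))
    | add a _ b _ ha hb => rw [add_mul, map_add, add_div]; exact add_mem ha hb
  | add a _ b _ ha hb => rw [map_add, add_div]; exact add_mem ha hb

theorem exists_sum {n : ℕ} {s : Set K} (G : Finset A) (hG : Ideal.span (G : Set A) = maximalIdeal A) {x : K}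
    (hx : x ∈ Pw A (n + 1) s) : ∃ p : A → K, (∀ i, p i ∈ Pw A n s) ∧ x = ∑ i ∈ G, ι i * p i := by
  classical
  induction hx using AddSubgroup.closure_induction with
  | mem y hy =>
    obtain ⟨c, hc, b, hb, rfl⟩ := hy
    rw [pow_succ', ← hG] at hc
    induction hc using Submodule.mul_induction_on' with
    | mem_mul_mem a ha q hq =>
      obtain ⟨w, -, hw⟩ := Submodule.mem_span_finset.1 ha
      rw [hG] at hq
      refine ⟨fun i => ι (w i * q) * b, fun i => mem_Pw (Ideal.mul_mem_left _ _ hq) hb, ?_⟩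
      rw [← hw, Finset.sum_mul, map_sum, Finset.sum_mul]
      refine Finset.sum_congr rfl fun i _ => ?_
      simp only [smul_eq_mul, map_mul]; ring
    | add a _ a' _ ha ha' =>
      obtain ⟨p, hp, ep⟩ := ha
      obtain ⟨q, hq, eq⟩ := ha'
      refine ⟨fun i => p i + q i, fun i => add_mem (hp i) (hq i), ?_⟩
      rw [map_add, add_mul, ep, eq, ← Finset.sum_add_distrib]
      exact Finset.sum_congr rfl fun i _ => (mul_add _ _ _).symm
  | zero => exact ⟨0, fun _ => zero_mem _, by simp⟩
  | add a b _ _ ha hb =>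
    obtain ⟨p, hp, rfl⟩ := ha
    obtain ⟨q, hq, rfl⟩ := hb
    refine ⟨fun i => p i + q i, fun i => add_mem (hp i) (hq i), ?_⟩
    rw [← Finset.sum_add_distrib]
    exact Finset.sum_congr rfl fun i _ => (mul_add _ _ _).symm
  | neg a _ ha =>
    obtain ⟨p, hp, rfl⟩ := ha
    refine ⟨fun i => -p i, fun i => neg_mem (hp i), ?_⟩
    rw [← Finset.sum_neg_distrib]
    exact Finset.sum_congr rfl fun i _ => (mul_neg _ _).symm

/-- Elements of the extended powers on both charts lie in the powers. -/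
theorem mem_pow_of_mem_Pw [IsIntegrallyClosed A] (h : Red A D f g) (hs : Split A (K := K) f g) :
    ∀ (n : ℕ) (a : A), ι a ∈ Pw A n {ι g / ι f} → ι a ∈ Pw A n {ι f / ι g} → a ∈ maximalIdeal A ^ n := by
  classical
  intro n
  induction n with
  | zero => intro a _ _; simp
  | succ n ih =>
    intro a hp hq
    rcases Nat.eq_zero_or_pos n with rfl | hn
    · -- degree one
      rw [zero_add, pow_one]
      by_contra ha
      have hau : IsUnit a := not_not.1 fun hu => ha ((mem_maximalIdeal a).2 hu)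
      haveI : IsLocalRing (algebraMap A K).range :=
        IsLocalRing.of_surjective' (algebraMap A K).rangeRestrict (algebraMap A K).rangeRestrict_surjective
      obtain ⟨V, hV⟩ : ∃ V : ValuationSubring K, LocalSubring.mk (algebraMap A K).range ≤ V.toLocalSubring :=
        LocalSubring.exists_le_valuationSubring _
      obtain ⟨hle, hloc⟩ := hV
      haveI := hloc
      have hA' : ∀ c : A, ι c ∈ V := fun c => hle ⟨c, rfl⟩
      have hmax : ∀ c ∈ maximalIdeal A, (⟨ι c, hA' c⟩ : V) ∈ maximalIdeal V := fun c hc => by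
        refine (mem_maximalIdeal _).2 fun hu => (mem_maximalIdeal c).1 hc ?_
        haveI := (algebraMap A K).rangeRestrict_surjective.isLocalHom
        exact IsUnit.of_map (algebraMap A K).rangeRestrict c (IsUnit.of_map (Subring.inclusion hle) _ hu)
      -- elements of the extended maximal ideal are nonunits
      have key : ∀ s : Set K, (∀ y ∈ s, y ∈ V) → ∀ x ∈ Pw A 1 s, ∃ hx : x ∈ V, (⟨x, hx⟩ : V) ∈ maximalIdeal V := by
        intro s hs x hx
        induction hx using AddSubgroup.closure_induction with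
        | mem y hy =>
          obtain ⟨c, hc, b, hb, rfl⟩ := hy
          rw [pow_one] at hc
          exact ⟨mul_mem (hA' c) (mem_ic.1 hb V hA' hs),
            Ideal.mul_mem_right (⟨b, mem_ic.1 hb V hA' hs⟩ : V) _ (hmax c hc)⟩
        | zero => exact ⟨zero_mem _, zero_mem _⟩
        | add a b _ _ ha hb =>
          obtain ⟨ha, ha'⟩ := ha
          obtain ⟨hb, hb'⟩ := hb
          exact ⟨add_mem ha hb, add_mem ha' hb'⟩
        | neg a _ ha =>
          obtain ⟨ha, ha'⟩ := ha
          exact ⟨neg_mem ha, neg_mem ha'⟩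
      have hunit : IsUnit (⟨ι a, hA' a⟩ : V) := hau.map ((algebraMap A K).codRestrict V.toSubring hA')
      rcases V.mem_or_inv_mem (ι g / ι f) with hv | hv
      · obtain ⟨h1, h2⟩ := key _ (fun y hy => (Set.mem_singleton_iff.1 hy) ▸ hv) _ hp
        exact (mem_maximalIdeal _).1 h2 hunit
      · rw [inv_div] at hv
        obtain ⟨h1, h2⟩ := key _ (fun y hy => (Set.mem_singleton_iff.1 hy) ▸ hv) _ hq
        exact (mem_maximalIdeal _).1 h2 hunit
    obtain ⟨G₀, hG₀⟩ := (IsNoetherian.noetherian (maximalIdeal A) : (maximalIdeal A).FG)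
    obtain ⟨p, hp', ep⟩ := exists_sum G₀ hG₀ hp
    obtain ⟨q, hq', eq⟩ := exists_sum G₀ hG₀ hq
    set T : Set K := {ι g / ι f, ι f / ι g}
    let d : A → K := fun i => p i - q i
    have hd : ∀ i, d i ∈ Pw A n T := fun i =>
      sub_mem (Pw_mono n (by simp [T]) _ (hp' i)) (Pw_mono n (by simp [T]) _ (hq' i))
    have hd0 : ∑ i ∈ G₀, ι i * d i = 0 := by
      simp only [d, mul_sub, Finset.sum_sub_distrib, ← ep, ← eq, sub_self]
    -- express the product of the forms
    obtain ⟨u, hu, efg⟩ : ∃ u : A → A, (∀ i, u i ∈ maximalIdeal A ^ (2 * D - 1)) ∧ f * g = ∑ i ∈ G₀, i * u i := by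
      have hmem : f * g ∈ maximalIdeal A * maximalIdeal A ^ (2 * D - 1) := by
        rw [← pow_succ', show 2 * D - 1 + 1 = D + D by have := h.pos; omega, pow_add]
        exact Ideal.mul_mem_mul h.f_mem h.g_mem
      have key : ∀ x ∈ maximalIdeal A * maximalIdeal A ^ (2 * D - 1),
          ∃ u : A → A, (∀ i, u i ∈ maximalIdeal A ^ (2 * D - 1)) ∧ x = ∑ i ∈ G₀, i * u i := by
        intro x hx
        induction hx using Submodule.mul_induction_on' with
        | mem_mul_mem a ha q hq =>
          rw [← hG₀] at ha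
          obtain ⟨w, -, hw⟩ := Submodule.mem_span_finset.1 ha
          refine ⟨fun i => w i * q, fun i => Ideal.mul_mem_left _ _ hq, ?_⟩
          rw [← hw, Finset.sum_mul]
          exact Finset.sum_congr rfl fun i _ => by simp only [smul_eq_mul]; ring
        | add a _ b _ ha hb =>
          obtain ⟨p, hp, rfl⟩ := ha
          obtain ⟨q, hq, rfl⟩ := hb
          refine ⟨fun i => p i + q i, fun i => add_mem (hp i) (hq i), ?_⟩
          rw [← Finset.sum_add_distrib]
          exact Finset.sum_congr rfl fun i _ => (mul_add _ _ _).symm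
      exact key _ hmem
    have hcoef : ∀ k i, ι (u k) * d i / (ι f * ι g) ∈ Pw A (n - 1) T := by
      intro k i
      suffices H : ∀ y ∈ Pw A n T, ι (u k) * y / (ι f * ι g) ∈ Pw A (n - 1) T from H _ (hd i)
      intro y hd'
      induction hd' using AddSubgroup.closure_induction with
      | mem y hy =>
        obtain ⟨c, hc, b, hb, rfl⟩ := hy
        rw [← mul_assoc, ← map_mul, mul_div_right_comm]
        refine Pw_mul hb (div_fg_mem h ?_)
        have h1 := Ideal.mul_mem_mul (hu k) hc
        rwa [← pow_add, show 2 * D - 1 + n = 2 * D + (n - 1) by have := h.pos; omega] at h1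
      | zero => rw [mul_zero, zero_div]; exact zero_mem _
      | add a b _ _ ha hb => rw [mul_add, add_div]; exact add_mem ha hb
      | neg a _ ha => rw [mul_neg, neg_div]; exact neg_mem ha
    choose c₁ hc₁ c₂ hc₂ hc using fun k i => split_Pw hs (n - 1) (hcoef k i)
    let p' : A → K := fun i => p i - ∑ k ∈ G₀, ι k * (c₁ k i - c₁ i k)
    let q' : A → K := fun i => q i - ∑ k ∈ G₀, ι k * (c₂ k i - c₂ i k)
    have hpq : ∀ i, p' i = q' i := by
      intro i
      have e1 : ∑ k ∈ G₀, ι k * (c₁ k i - c₁ i k) - ∑ k ∈ G₀, ι k * (c₂ k i - c₂ i k) = d i := by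
        have hF : ι f * ι g ≠ 0 := mul_ne_zero (inj h.f_ne) (inj h.g_ne)
        rw [← Finset.sum_sub_distrib]
        calc ∑ k ∈ G₀, (ι k * (c₁ k i - c₁ i k) - ι k * (c₂ k i - c₂ i k))
            = ∑ k ∈ G₀, (ι k * ι (u k) * d i / (ι f * ι g) - ι (u i) / (ι f * ι g) * (ι k * d k)) := by
              refine Finset.sum_congr rfl fun k _ => ?_
              linear_combination ι k * (-(hc k i) + hc i k)
          _ = (∑ k ∈ G₀, ι k * ι (u k)) * d i / (ι f * ι g) - ι (u i) / (ι f * ι g) * ∑ k ∈ G₀, ι k * d k := by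
              rw [Finset.sum_sub_distrib, Finset.sum_mul, Finset.sum_div, Finset.mul_sum]
          _ = d i := by
              rw [hd0, mul_zero, sub_zero, show ∑ k ∈ G₀, ι k * ι (u k) = ι f * ι g by
                rw [← map_mul, efg, map_sum]; exact Finset.sum_congr rfl fun k _ => (map_mul _ _ _).symm]
              exact mul_div_cancel_left₀ (d i) hF
      show p i - _ = q i - _
      linear_combination -e1
    have hsum : ι a = ∑ i ∈ G₀, ι i * p' i := by
      rw [ep]
      simp only [p', mul_sub, Finset.sum_sub_distrib, Finset.mul_sum]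
      rw [Finset.sum_comm (f := fun i k => ι i * (ι k * c₁ i k))]
      have : ∑ i ∈ G₀, ∑ k ∈ G₀, ι i * (ι k * c₁ k i) = ∑ i ∈ G₀, ∑ k ∈ G₀, ι k * (ι i * c₁ k i) :=
        Finset.sum_congr rfl fun i _ => Finset.sum_congr rfl fun k _ => by ring
      rw [this, sub_self, sub_zero]
    have hp1 : ∀ i, p' i ∈ Pw A n {ι g / ι f} := fun i => by
      refine sub_mem (hp' i) (sum_mem fun k hk => ?_)
      have h1 := mul_Pw (k := 1) (c := k) (by rw [pow_one]; exact hG₀ ▸ Submodule.subset_span hk) (sub_mem (hc₁ k i) (hc₁ i k))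
      rwa [show 1 + (n - 1) = n by omega] at h1
    have hq1 : ∀ i, p' i ∈ Pw A n {ι f / ι g} := fun i => by
      rw [hpq]
      refine sub_mem (hq' i) (sum_mem fun k hk => ?_)
      have h1 := mul_Pw (k := 1) (c := k) (by rw [pow_one]; exact hG₀ ▸ Submodule.subset_span hk) (sub_mem (hc₂ k i) (hc₂ i k))
      rwa [show 1 + (n - 1) = n by omega] at h1
    choose b hb using fun i => exists_of_mem_both (A := A) (f := f) (g := g) (Pw_le_ic _ _ _ (hp1 i)) (Pw_le_ic _ _ _ (hq1 i))
    have ea : a = ∑ i ∈ G₀, i * b i := by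
      apply IsFractionRing.injective A K
      rw [hsum, map_sum]
      exact Finset.sum_congr rfl fun i _ => by rw [map_mul, hb]
    rw [ea, pow_succ']
    exact Submodule.sum_mem _ fun i hi => Ideal.mul_mem_mul (hG₀ ▸ Submodule.subset_span hi)
      (ih (b i) (hb i ▸ hp1 i) (hb i ▸ hq1 i))

end Groth.Agent.RatSing
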