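import Mathlib
import Groth.Agent.RatSing.Powers
import Groth.Agent.Sol.Model

/-!
# Normal modifications with invertible closed fibre
-/

set_option autoImplicit false
set_option linter.style.haveILetI false
set_option linter.unusedSectionVars false
set_option backward.isDefEq.respectTransparency false
set_option backward.isDefEq.respectTransparency.types false
set_option maxHeartbeats 400000

universe u

open CategoryTheory CategoryTheory.Limits AlgebraicGeometry TopologicalSpace Filter IsLocalRing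
open scoped Topology
open Groth.Agent.FibrePP (O)
open Groth.Agent.NormSeq (Model locRing)
open Groth.Agent.Sol

noncomputable section

namespace Groth.Agent.RatSing

variable {R : CommRingCat.{u}} [IsDomain R] (M : Model (Spec R))

local notation "ι" => algebraMap R (Scheme.functionField (Spec R))

theorem map_mem_O (s : Spec R) (a : R) : ι a ∈ O s := by
  have h : ι a = toFF (⊤ : (Spec R).Opens) (x := s) trivial ((Scheme.ΓSpecIso R).inv a) := rfl
  rw [h]
  exact toFF_mem (⊤ : (Spec R).Opens) (x := s) trivial trivial _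

theorem map_mem_locRing (x : M.Z) (a : R) : ι a ∈ locRing M x := O_le M x (map_mem_O _ a)

/-- The centre of a valuation ring on a proper model. -/
theorem exists_centre [IsProper M.G] (V : ValuationSubring (Spec R).functionField) (hV : ∀ a, ι a ∈ V) :
    ∃ x : M.Z, ∃ hle : locRing M x ≤ V.toSubring, ∀ c ∈ locRing M x, c⁻¹ ∈ V → c⁻¹ ∈ locRing M x := by
  let i₀ : R ⟶ CommRingCat.of V :=
    CommRingCat.ofHom ((algebraMap R (Spec R).functionField).codRestrict V.toSubring hV)
  let j : CommRingCat.of V ⟶ (Spec R).functionField := CommRingCat.ofHom V.subtype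
  have hgen : Spec.map (i₀ ≫ j) = (Spec R).fromSpecStalk (genericPoint (Spec R)) := by
    rw [Spec.fromSpecStalk_eq]
    rfl
  have hvc : ValuativeCriterion.Existence M.G := by
    have h : IsProper M.G := ‹_›
    rw [IsProper.eq_valuativeCriterion] at h
    exact h.1.1.1.existence
  obtain ⟨⟨l, hl1, -⟩⟩ := (hvc
    { R := V
      K := (Spec R).functionField
      i₁ := M.genHom
      i₂ := Spec.map i₀
      commSq := ⟨by
        show M.genHom ≫ M.G = Spec.map j ≫ Spec.map i₀
        rw [M.genHom_G, ← Spec.map_comp, hgen]⟩ }).exists_lift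
  change Spec.map j ≫ l = M.genHom at hl1
  let x := l (closedPoint (CommRingCat.of V))
  have hkey : Scheme.stalkClosedPointTo l ≫ j = M.toKHom x := by
    apply Spec.map_injective
    rw [← cancel_mono (M.Z.fromSpecStalk x), Spec.map_comp, Category.assoc,
      Scheme.Spec_stalkClosedPointTo_fromSpecStalk, hl1, M.spec_toK]
  have hval : ∀ a, M.toKHom x a = (Scheme.stalkClosedPointTo l a : V) := fun a => (congr($hkey a)).symm
  refine ⟨x, ?_, ?_⟩
  · rintro c ⟨a, rfl⟩
    rw [hval]
    exact (Scheme.stalkClosedPointTo l a : V).2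
  · rintro c ⟨a, rfl⟩ hinv
    by_cases h0 : M.toKHom x a = 0
    · rw [h0, inv_zero]; exact zero_mem _
    have hu : IsUnit (Scheme.stalkClosedPointTo l a) := by
      refine IsUnit.of_mul_eq_one (⟨_, hinv⟩ : V) (Subtype.ext ?_)
      show ((Scheme.stalkClosedPointTo l a : V) : (Spec R).functionField) * (M.toKHom x a)⁻¹ = 1
      rw [← hval, mul_inv_cancel₀ h0]
    obtain ⟨u, hu'⟩ := IsUnit.exists_right_inv (IsUnit.of_map (Scheme.stalkClosedPointTo l).hom a hu)
    exact ⟨u, (eq_inv_of_mul_eq_one_right (by rw [← map_mul, hu', map_one]))⟩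

variable [IsLocalRing R] [IsNoetherianRing R]

/-- The closed fibre is an effective Cartier divisor, in terms of the local rings. -/
def FibreGen (x : M.Z) (a₀ : R) : Prop :=
  a₀ ∈ maximalIdeal R ∧ a₀ ≠ 0 ∧ ∀ c ∈ maximalIdeal R, ι c / ι a₀ ∈ locRing M x

theorem div_pow_mem {x : M.Z} {a₀ : R} (h : FibreGen M x a₀) :
    ∀ (n : ℕ), ∀ c ∈ maximalIdeal R ^ n, ι c / ι a₀ ^ n ∈ locRing M x := by
  intro n
  induction n with
  | zero => intro c _; rw [pow_zero, div_one]; exact map_mem_locRing M x c
  | succ n ih =>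
    intro c hc
    rw [pow_succ] at hc
    induction hc using Submodule.mul_induction_on' with
    | mem_mul_mem p hp q hq => rw [map_mul, pow_succ, mul_div_mul_comm]; exact mul_mem (ih p hp) (h.2.2 q hq)
    | add p _ q _ hp hq => rw [map_add, add_div]; exact add_mem hp hq

variable {D : ℕ} {f g : R}

theorem fg_cases (hred : Red R D f g) {x : M.Z} (hx : ∃ a₀, FibreGen M x a₀) :
    ι g / ι f ∈ locRing M x ∨ ι f / ι g ∈ locRing M x := by
  obtain ⟨a₀, ha⟩ := hx
  obtain ⟨N, hN, heq⟩ := hred.eq
  have hne0 : ι a₀ ≠ 0 := inj ha.2.1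
  let uf : locRing M x := ⟨_, div_pow_mem M ha D f hred.f_mem⟩
  let ug : locRing M x := ⟨_, div_pow_mem M ha D g hred.g_mem⟩
  have key : ∀ z ∈ Ideal.span {f, g} * maximalIdeal R ^ (N - D),
      ∃ p q : locRing M x, ι z / ι a₀ ^ N = (p : (Spec R).functionField) * uf + (q : (Spec R).functionField) * ug := by
    intro z hz
    induction hz using Submodule.mul_induction_on' with
    | mem_mul_mem p hp q hq =>
      obtain ⟨u, v, rfl⟩ := Ideal.mem_span_pair.1 hp
      let w : locRing M x := ⟨_, div_pow_mem M ha _ q hq⟩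
      refine ⟨⟨ι u, map_mem_locRing M x u⟩ * w, ⟨ι v, map_mem_locRing M x v⟩ * w, ?_⟩
      show _ = ι u * (ι q / ι a₀ ^ (N - D)) * (ι f / ι a₀ ^ D) + ι v * (ι q / ι a₀ ^ (N - D)) * (ι g / ι a₀ ^ D)
      rw [show ι a₀ ^ N = ι a₀ ^ D * ι a₀ ^ (N - D) by rw [← pow_add, Nat.add_sub_cancel' hN]]
      rw [map_mul, map_add, map_mul, map_mul]
      field_simp
    | add p _ q _ hp hq =>
      obtain ⟨p₁, q₁, h1⟩ := hp
      obtain ⟨p₂, q₂, h2⟩ := hq
      refine ⟨p₁ + p₂, q₁ + q₂, ?_⟩
      rw [map_add, add_div, h1, h2]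
      push_cast; ring
  obtain ⟨p, q, hpq⟩ := key (a₀ ^ N) (heq ▸ Ideal.pow_mem_pow ha.1 N)
  rw [map_pow, div_self (pow_ne_zero _ hne0)] at hpq
  have h1 : p * uf + q * ug = 1 := Subtype.ext hpq.symm
  have main : ∀ (r s : R) (hr : ι r / ι a₀ ^ D ∈ locRing M x), IsUnit (⟨_, hr⟩ : locRing M x) →
      ι s / ι a₀ ^ D ∈ locRing M x → ι s / ι r ∈ locRing M x := by
    intro r s hr hu hs
    obtain ⟨v, hv⟩ := hu.exists_right_inv
    have hv' : ι r / ι a₀ ^ D * (v : (Spec R).functionField) = 1 := congrArg Subtype.val hv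
    have e : ι s / ι r = ι s / ι a₀ ^ D * v := by
      have hr0 : ι r ≠ 0 := fun h => by rw [h, zero_div, zero_mul] at hv'; exact zero_ne_one hv'
      rw [div_eq_iff hr0, mul_assoc, mul_comm (v : (Spec R).functionField)]
      field_simp at hv'
      field_simp
      linear_combination (-(ι s)) * hv'
    rw [e]
    exact mul_mem hs v.2
  rcases IsLocalRing.isUnit_or_isUnit_of_isUnit_add (h1 ▸ isUnit_one) with hu | hu
  · exact Or.inl (main f g _ (isUnit_of_mul_isUnit_right hu) ug.2)
  · exact Or.inr (main g f _ (isUnit_of_mul_isUnit_right hu) uf.2)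

variable [IsProper M.G]

theorem mem_ic_of_forall {s : Set (Spec R).functionField} {c : (Spec R).functionField}
    (h : ∀ x, (∀ y ∈ s, y⁻¹ ∈ locRing M x → y ∈ locRing M x) → c ∈ locRing M x) : c ∈ ic R s := by
  refine mem_ic.2 fun V hV hs => ?_
  obtain ⟨x, hle, hloc⟩ := exists_centre M V hV
  refine hle (h x fun y hy hinv => ?_)
  have h1 := hloc _ hinv (by rw [inv_inv]; exact hs y hy)
  rwa [inv_inv] at h1

/-- Solvable data make the overlap split. -/
theorem split_of_sol (hred : Red R D f g) (hgen : ∀ x, ∃ a₀, FibreGen M x a₀)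
    (hn : ∀ x : M.Z, IsIntegrallyClosed (M.Z.presheaf.stalk x)) (h : Sol (locRing M)) :
    Split R (K := (Spec R).functionField) f g := by
  classical
  intro c hc
  have hcmem : ∀ x, ι g / ι f ∈ locRing M x → ι f / ι g ∈ locRing M x → c ∈ locRing M x := by
    intro x h1 h2
    by_contra hcx
    haveI : IsIntegrallyClosedIn (locRing M x) (Spec R).functionField := by
      rw [Subring.isIntegrallyClosedIn_iff]
      exact fun {y} hy => NormSeq.isIntegrallyClosed_range M x (hn x) hy
    obtain ⟨V, hV, hcV⟩ := Subring.exists_le_valuationSubring_of_isIntegrallyClosedIn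
      (R := locRing M x) (x := c) hcx
    exact hcV (mem_ic.1 hc V (fun a => hV (map_mem_locRing M x a)) fun y hy => by
      rcases hy with rfl | rfl
      · exact hV h1
      · exact hV h2)
  have hV' : ∀ x, ι g / ι f ∉ locRing M x → ι f / ι g ∈ locRing M x :=
    fun x hx => (fg_cases M hred (hgen x)).resolve_left hx
  let g₀ : M.Z → (Spec R).functionField := fun x => if ι g / ι f ∈ locRing M x then c else 0
  obtain ⟨a, ha⟩ := h g₀ fun x => by
    by_cases hx : ι g / ι f ∈ locRing M x
    · filter_upwards [openMem_locRing M x _ hx] with y hy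
      simp only [g₀, if_pos hx, if_pos hy, sub_self, zero_mem]
    · filter_upwards [openMem_locRing M x _ (hV' x hx)] with y hy
      by_cases hy' : ι g / ι f ∈ locRing M y
      · simp only [g₀, if_neg hx, if_pos hy', zero_sub]
        exact neg_mem (hcmem y hy' hy)
      · simp only [g₀, if_neg hx, if_neg hy', sub_self, zero_mem]
  have hmem : ∀ (u v : (Spec R).functionField) (x : M.Z), v = u⁻¹ → (u ∈ locRing M x ∨ v ∈ locRing M x) →
      (v ∈ locRing M x → u ∈ locRing M x) → u ∈ locRing M x := fun u v x _ hor himp => hor.elim id himp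
  refine ⟨c - a, mem_ic_of_forall M fun x hx => ?_, -a, mem_ic_of_forall M fun x hx => ?_, by ring⟩
  · have h1 : ι g / ι f ∈ locRing M x := hmem _ _ x (inv_div _ _).symm (fg_cases M hred (hgen x))
      fun h2 => hx _ rfl (by rw [inv_div]; exact h2)
    have h2 := ha x
    simp only [g₀, if_pos h1] at h2
    rw [← neg_sub]
    exact neg_mem h2
  · have h1 : ι f / ι g ∈ locRing M x := hmem _ _ x (inv_div _ _).symm (fg_cases M hred (hgen x)).symm
      fun h2 => hx _ rfl (by rw [inv_div]; exact h2)
    have h2 := ha x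
    by_cases hgf : ι g / ι f ∈ locRing M x
    · simp only [g₀, if_pos hgf] at h2
      have := add_mem h2 (hcmem x hgf h1)
      rw [sub_add_cancel] at this
      exact neg_mem this
    · simp only [g₀, if_neg hgf, sub_zero] at h2
      exact neg_mem h2

/-- Elements vanishing to order `n` on the closed fibre lie in the extended powers. -/
theorem Pw_of_forall (hred : Red R D f g) (hgen : ∀ x, ∃ a₀, FibreGen M x a₀) (n : ℕ) (a : R)
    (h : ∀ x, ∀ a₀, FibreGen M x a₀ → ι a / ι a₀ ^ n ∈ locRing M x) :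
    ι a ∈ Pw R n ({ι g / ι f} : Set (Spec R).functionField) := by
  classical
  have hf0 : ι f ≠ 0 := inj hred.f_ne
  have key : ∀ z ∈ maximalIdeal R ^ (n * (D - 1)), ι a * ι z / ι f ^ n ∈ ic R ({ι g / ι f} : Set (Spec R).functionField) := by
    intro z hz
    refine mem_ic.2 fun V hV hs => ?_
    obtain ⟨x, hle, -⟩ := exists_centre M V hV
    obtain ⟨a₀, ha⟩ := hgen x
    have hne0 : ι a₀ ≠ 0 := inj ha.2.1
    have h1 : ι (a₀ ^ D) / ι f ∈ V :=
      mem_ic.1 (div_f_mem (K := (Spec R).functionField) hred (Ideal.pow_mem_pow ha.1 D)) V hV hs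
    have e : ι a * ι z / ι f ^ n = ι a / ι a₀ ^ n * (ι z / ι a₀ ^ (n * (D - 1))) * (ι (a₀ ^ D) / ι f) ^ n := by
      rw [map_pow, div_pow, ← pow_mul]
      have : D * n = n + n * (D - 1) := by
        obtain ⟨k, rfl⟩ := Nat.exists_eq_add_of_le hred.pos
        rw [Nat.succ_eq_add_one, zero_add, Nat.add_sub_cancel_left]; ring
      rw [this, pow_add]
      field_simp
    rw [e]
    exact mul_mem (mul_mem (hle (h x a₀ ha)) (hle (div_pow_mem M ha _ z hz))) (pow_mem h1 n)
  have key2 : ∀ w ∈ maximalIdeal R ^ n * maximalIdeal R ^ (n * (D - 1)),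
      ι a * ι w / ι f ^ n ∈ Pw R n ({ι g / ι f} : Set (Spec R).functionField) := by
    intro w hw
    induction hw using Submodule.mul_induction_on' with
    | mem_mul_mem p hp q hq =>
      rw [map_mul, ← mul_assoc, mul_comm (ι a), mul_assoc, mul_div_assoc]
      exact mem_Pw hp (key q hq)
    | add p _ q _ hp hq => rw [map_add, mul_add, add_div]; exact add_mem hp hq
  have := key2 (f ^ n) (by
    rw [← pow_add, show n + n * (D - 1) = D * n by
      obtain ⟨k, rfl⟩ := Nat.exists_eq_add_of_le hred.pos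
      rw [Nat.succ_eq_add_one, zero_add, Nat.add_sub_cancel_left]; ring, pow_mul]
    exact Ideal.pow_mem_pow hred.f_mem n)
  rwa [map_pow, mul_div_assoc, div_self (pow_ne_zero _ hf0), mul_one] at this

/-- The powers of the maximal ideal are the sections of the powers of the fibre ideal. -/
theorem mem_pow_of_forall [IsIntegrallyClosed R] (hA : ringKrullDim R = 2) (hgen : ∀ x, ∃ a₀, FibreGen M x a₀)
    (hn : ∀ x : M.Z, IsIntegrallyClosed (M.Z.presheaf.stalk x)) (h : Sol (locRing M)) (n : ℕ) (a : R)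
    (ha : ∀ x, ∀ a₀, FibreGen M x a₀ → ι a / ι a₀ ^ n ∈ locRing M x) : a ∈ maximalIdeal R ^ n := by
  obtain ⟨D, f, g, hred⟩ := exists_red (A := R) (Spec R).functionField hA
  exact mem_pow_of_mem_Pw hred (split_of_sol M hred hgen hn h) n a (Pw_of_forall M hred hgen n a ha)
    (Pw_of_forall M hred.symm hgen n a ha)

end Groth.Agent.RatSing
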