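import Mathlib
import Groth.Agent.RatSing.Modification
import Groth.Agent.BlowUpLib.Local
import Groth.Agent.OmegaLib.IdealMod
import Groth.Agent.InvX.GenEpi
import Groth.Agent.PointBlow.Main

/-!
# The ideal of the closed fibre
-/

set_option autoImplicit false
set_option linter.style.haveILetI false
set_option linter.unusedSectionVars false
set_option backward.isDefEq.respectTransparency false
set_option backward.isDefEq.respectTransparency.types false
set_option maxHeartbeats 400000

universe u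

open CategoryTheory CategoryTheory.Limits AlgebraicGeometry TopologicalSpace IsLocalRing
open Groth.Agent.H23.StalkIdeal
open Groth.Agent.NormSeq (Model locRing)

noncomputable section

namespace Groth.Agent.RatSing

variable {A : Type u} [CommRing A]

theorem centre_pow_ideal (I : Ideal A) (n : ℕ) {X : Scheme.{u}} (f : X ⟶ Spec (CommRingCat.of A)) (U : X.affineOpens) :
    ((((BlowUpLib.centre I).comap f) ^ n).ideal U) = (I ^ n).map (BlowUpLib.strHom f U.1) := by
  rw [Scheme.IdealSheafData.ideal_pow, Pi.pow_apply, BlowUpLib.ideal_comap_centre, Ideal.map_pow]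

/-- The ideal of the inverse image of an ideal is globally generated. -/
theorem isGloballyGenerated_centre (I : Ideal A) {X : Scheme.{u}} (f : X ⟶ Spec (CommRingCat.of A))
    (K : X.IdealSheafData) (hK : ∀ U : X.affineOpens, K.ideal U = I.map (BlowUpLib.strHom f U.1)) :
    Curv2.IsGloballyGenerated (ClSub.idealMod K) := by
  have hres : ∀ (U : X.Opens) (c : A),
      X.presheaf.map (homOfLE (le_top : U ≤ ⊤)).op (BlowUpLib.strHom f ⊤ c) = BlowUpLib.strHom f U c := fun U c => by
    show (f.appLE ⊤ ⊤ le_top ≫ X.presheaf.map (homOfLE le_top).op) _ = f.appLE ⊤ U le_top _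
    rw [Scheme.Hom.appLE_map]
  have hker : ∀ c ∈ I, K.subschemeι.app ⊤ (BlowUpLib.strHom f ⊤ c) = 0 := by
    intro c hc
    refine TopCat.Sheaf.eq_of_locally_eq' K.subscheme.sheaf (fun U : X.affineOpens => K.subschemeι ⁻¹ᵁ U.1) _
      (fun U => homOfLE le_top) (fun p _ => ?_) _ _ fun U => ?_
    · obtain ⟨U, hU, hpU, -⟩ := exists_isAffineOpen_mem_and_subset (x := K.subschemeι p) (U := ⊤) trivial
      exact Opens.mem_iSup.2 ⟨⟨U, hU⟩, hpU⟩
    · rw [map_zero]
      have h1 := congr($(K.subschemeι.naturality (homOfLE (le_top : U.1 ≤ ⊤)).op) (BlowUpLib.strHom f ⊤ c))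
      refine Eq.trans h1.symm ?_
      show K.subschemeι.app U.1 (X.presheaf.map (homOfLE le_top).op (BlowUpLib.strHom f ⊤ c)) = 0
      rw [hres, ← RingHom.mem_ker, K.ker_subschemeι_app, hK]
      exact Ideal.mem_map_of_mem _ hc
  choose s hs using fun c : I => OmegaLib.exists_idealSect_eq K ⊤ _ (hker c.1 c.2)
  refine InvX.isGloballyGenerated_of_generated (s := s) fun x => eq_top_iff.2 fun m _ => ?_
  obtain ⟨V, hxV, k₀, rfl⟩ := TopCat.Presheaf.exists_germ_eq (C := AddCommGrpCat.{u}) (ClSub.idealMod K).presheaf (x := x) m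
  obtain ⟨U, hU, hxU, hUV⟩ := exists_isAffineOpen_mem_and_subset (x := x) (U := V) hxV
  let k := (ClSub.idealMod K).presheaf.map (homOfLE (hUV : U ≤ V)).op k₀
  have hmem := OmegaLib.idealSect_mem K ⟨U, hU⟩ k
  rw [hK] at hmem
  obtain ⟨k', hk', hspan⟩ : ∃ k', OmegaSh.idealSect K U k' = OmegaSh.idealSect K U k ∧
      (ClSub.idealMod K).presheaf.germ U x hxU k' ∈ Submodule.span (X.presheaf.stalk x)
        (Set.range fun i => ((ClSub.idealMod K).presheaf.germ ⊤ x trivial).hom (s i)) := by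
    generalize OmegaSh.idealSect K U k = z at hmem
    induction hmem using Submodule.span_induction with
    | mem z hz =>
      obtain ⟨c, hc, rfl⟩ := hz
      refine ⟨(ClSub.idealMod K).presheaf.map (homOfLE le_top).op (s ⟨c, hc⟩), ?_, ?_⟩
      · rw [OmegaLib.idealSect_map, hs, hres]
      · erw [(ClSub.idealMod K).presheaf.germ_res_apply]
        exact Submodule.subset_span ⟨⟨c, hc⟩, rfl⟩
    | zero => exact ⟨0, map_zero _, by rw [map_zero]; exact zero_mem _⟩
    | add a b _ _ ha hb =>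
      obtain ⟨p, hp, hp'⟩ := ha
      obtain ⟨q, hq, hq'⟩ := hb
      exact ⟨p + q, by rw [map_add, hp, hq], by rw [map_add]; exact add_mem hp' hq'⟩
    | smul r z _ hz =>
      obtain ⟨p, hp, hp'⟩ := hz
      refine ⟨r • p, by rw [OmegaLib.idealSect_smul, hp]; rfl, ?_⟩
      erw [PresheafOfModules.germ_smul (R := X.presheaf) (M := (ClSub.idealMod K).val) x U hxU r p]
      exact Submodule.smul_mem _ _ hp'
  rw [OmegaLib.idealSect_injective K U hk'] at hspan
  have e := (ClSub.idealMod K).presheaf.germ_res_apply (homOfLE (hUV : U ≤ V)) x hxU k₀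
  rw [← e]
  exact hspan

section Stalk

variable {R : CommRingCat.{u}} [IsDomain R] (M : Model (Spec R))

local notation "ι" => algebraMap R (Scheme.functionField (Spec R))

/-- Elements of the base in the local rings of a model. -/
def strStalk (x : M.Z) : R →+* M.Z.presheaf.stalk x :=
  ((Scheme.ΓSpecIso R).inv ≫ (Spec R).presheaf.germ ⊤ (M.G x) trivial ≫ M.G.stalkMap x).hom

theorem toK_strStalk (x : M.Z) (a : R) : M.toKHom x (strStalk M x a) = ι a := by
  show ((Scheme.ΓSpecIso R).inv ≫ (Spec R).presheaf.germ ⊤ (M.G x) trivial ≫ M.G.stalkMap x ≫ M.toKHom x) a = _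
  rw [M.stalkMap_toK, TopCat.Presheaf.germ_stalkSpecializes]
  rfl

theorem germ_strHom {U : M.Z.Opens} {x : M.Z} (hx : x ∈ U) (a : R) :
    M.Z.presheaf.germ U x hx (BlowUpLib.strHom (A := R) M.G U a) = strStalk M x a := by
  show ((Scheme.ΓSpecIso R).inv ≫ M.G.appLE ⊤ U le_top ≫ M.Z.presheaf.germ U x hx) a = _
  rw [strStalk, Scheme.Hom.germ_stalkMap, Scheme.Hom.appLE, Category.assoc, TopCat.Presheaf.germ_res]

theorem sI_pow_centre (J : Ideal R) (n : ℕ) (x : M.Z) :
    sI (((BlowUpLib.centre (A := R) J).comap M.G) ^ n) x = (J ^ n).map (strStalk M x) := by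
  obtain ⟨U, hU, hxU, -⟩ := exists_isAffineOpen_mem_and_subset (x := x) (U := ⊤) trivial
  rw [sI_eq _ ⟨U, hU⟩ hxU, CDivEq.stk, centre_pow_ideal, Ideal.map_map]
  congr 1
  exact RingHom.ext fun a => germ_strHom M hxU a

variable [IsLocalRing R] [IsNoetherianRing R]

theorem map_eq_span {x : M.Z} {a₀ : R} (h : FibreGen M x a₀) :
    (maximalIdeal R).map (strStalk M x) = Ideal.span {strStalk M x a₀} := by
  refine le_antisymm (Ideal.map_le_iff_le_comap.2 fun c hc => ?_)
    ((Ideal.span_singleton_le_iff_mem _).2 (Ideal.mem_map_of_mem _ h.1))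
  obtain ⟨r, hr⟩ := h.2.2 c hc
  rw [Ideal.mem_comap, Ideal.mem_span_singleton]
  refine ⟨r, M.toK_injective x ?_⟩
  rw [map_mul, toK_strStalk, toK_strStalk]
  change M.toKHom x r = _ at hr
  rw [hr, mul_div_cancel₀ _ (inj h.2.1)]

theorem exists_fibreGen (x : M.Z) {γ : M.Z.presheaf.stalk x} (hne : maximalIdeal R ≠ ⊥)
    (hγ : (maximalIdeal R).map (strStalk M x) = Ideal.span {γ}) : ∃ a₀, FibreGen M x a₀ := by
  by_contra hno
  have hdiv : ∀ c ∈ maximalIdeal R, ∃ r, strStalk M x c = γ * r := fun c hc =>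
    Ideal.mem_span_singleton.1 (hγ ▸ Ideal.mem_map_of_mem _ hc)
  have hγ0 : γ ≠ 0 := by
    rintro rfl
    refine hne (eq_bot_iff.2 fun c hc => ?_)
    obtain ⟨r, hr⟩ := hdiv c hc
    rw [zero_mul] at hr
    have h1 := toK_strStalk M x c
    rw [hr, map_zero] at h1
    exact IsFractionRing.injective R (Spec R).functionField (h1.symm.trans (map_zero _).symm)
  have hle : (maximalIdeal R).map (strStalk M x) ≤ maximalIdeal (M.Z.presheaf.stalk x) * Ideal.span {γ} := by
    refine Ideal.map_le_iff_le_comap.2 fun c hc => ?_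
    obtain ⟨r, hr⟩ := hdiv c hc
    rw [Ideal.mem_comap, hr, mul_comm γ]
    refine Ideal.mul_mem_mul ((mem_maximalIdeal r).2 fun hu => hno ?_) (Ideal.mem_span_singleton_self γ)
    by_cases hc0 : c = 0
    · subst hc0
      rw [map_zero] at hr
      exact absurd ((mul_eq_zero.1 hr.symm).resolve_left hγ0) hu.ne_zero
    refine ⟨c, hc, hc0, fun d hd => ?_⟩
    obtain ⟨s, hs⟩ := hdiv d hd
    obtain ⟨v, hv⟩ := hu.exists_right_inv
    refine ⟨s * v, ?_⟩
    rw [eq_div_iff (inj hc0), ← toK_strStalk M x c, ← toK_strStalk M x d, ← map_mul]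
    refine congrArg (M.toKHom x) ?_
    rw [hs, hr]
    linear_combination s * γ * hv
  rw [hγ] at hle
  obtain ⟨p, hp, hpγ⟩ := Ideal.mem_mul_span_singleton.1 (hle (Ideal.mem_span_singleton_self γ))
  have : p = 1 := mul_right_cancel₀ hγ0 (by rw [hpγ, one_mul])
  exact (maximalIdeal.isMaximal (M.Z.presheaf.stalk x)).ne_top ((Ideal.eq_top_iff_one _).2 (this ▸ hp))

/-- Sections of a power of the fibre ideal at a point. -/
theorem mem_iff {x : M.Z} {a₀ : R} (h : FibreGen M x a₀) (n : ℕ) (a : R) :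
    strStalk M x a ∈ sI (((BlowUpLib.centre (A := R) (maximalIdeal R)).comap M.G) ^ n) x ↔
      ι a / ι a₀ ^ n ∈ locRing M x := by
  rw [sI_pow_centre, Ideal.map_pow, map_eq_span M h, Ideal.span_singleton_pow, Ideal.mem_span_singleton]
  have hne : ι a₀ ^ n ≠ 0 := pow_ne_zero _ (inj h.2.1)
  constructor
  · rintro ⟨r, hr⟩
    refine ⟨r, ?_⟩
    rw [eq_div_iff hne, ← toK_strStalk M x a, hr, map_mul, map_pow, toK_strStalk, mul_comm]
  · rintro ⟨r, hr⟩
    refine ⟨r, M.toK_injective x ?_⟩
    change M.toKHom x r = _ at hr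
    rw [map_mul, map_pow, toK_strStalk, toK_strStalk, hr, mul_div_cancel₀ _ hne]

/-- An effective Cartier fibre has generators from the base. -/
theorem fibreGen_of_isEffCartier (hne : maximalIdeal R ≠ ⊥)
    (hE : BlowUp.IsEffCartierIdeal ((BlowUpLib.centre (A := R) (maximalIdeal R)).comap M.G)) (x : M.Z) :
    ∃ a₀, FibreGen M x a₀ := by
  obtain ⟨γ, -, hγ⟩ := H23.StalkIdeal.exists_gen hE x
  refine exists_fibreGen M x hne (γ := γ) ?_
  have h1 := sI_pow_centre M (maximalIdeal R) 1 x
  rw [pow_one, pow_one, hγ] at h1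
  exact h1.symm

end Stalk

end Groth.Agent.RatSing
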