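import Mathlib
import Groth.Agent.RatSing.Fibre

/-!
# Modifications of rational singularities
-/

set_option autoImplicit false
set_option linter.style.haveILetI false
set_option linter.unusedSectionVars false
set_option backward.isDefEq.respectTransparency false
set_option backward.isDefEq.respectTransparency.types false
set_option maxHeartbeats 400000

universe u

open CategoryTheory CategoryTheory.Limits AlgebraicGeometry TopologicalSpace IsLocalRing
open Groth.Agent.NormSeq (Model locRing)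

noncomputable section

namespace Groth.Agent.RatSing

variable {A : Type u} [CommRing A]

/-- A morphism which is an isomorphism over a nonempty open is birational. -/
theorem birational_of_isIso {X Y : Scheme.{u}} [IsIntegral X] [IsIntegral Y] (f : X ⟶ Y)
    (h : ∃ U : Y.Opens, (U : Set Y).Nonempty ∧ IsIso (f ∣_ U)) :
    f (genericPoint X) = genericPoint Y ∧ IsIso (f.stalkMap (genericPoint X)) := by
  obtain ⟨U, ⟨v, hv⟩, hiso⟩ := h
  haveI := hiso
  have hne : ((f ⁻¹ᵁ U : X.Opens) : Set X).Nonempty :=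
    ⟨((inv (f ∣_ U)) ⟨v, hv⟩).1, ((inv (f ∣_ U)) ⟨v, hv⟩).2⟩
  haveI : IsOpenImmersion ((f ⁻¹ᵁ U).ι ≫ f) := by rw [← morphismRestrict_ι]; infer_instance
  have hgU : genericPoint X ∈ f ⁻¹ᵁ U :=
    ((genericPoint_spec X).mem_open_set_iff (f ⁻¹ᵁ U).isOpen).2 (by rwa [Set.univ_inter])
  exact ⟨PurBir.map_genericPoint f (W := f ⁻¹ᵁ U) hne, PurBir.isIso_stalkMap_of_mem f (W := f ⁻¹ᵁ U) hgU⟩

theorem maximalIdeal_ne_bot [IsLocalRing A] [IsDomain A] (hdim : ringKrullDim A = 2) : maximalIdeal A ≠ ⊥ := by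
  intro h
  have h1 := IsLocalRing.maximalIdeal_height_eq_ringKrullDim (R := A)
  rw [h, Ideal.height_bot, hdim] at h1
  exact absurd (WithBot.coe_eq_coe.1 (h1.trans (by rfl)) : (0 : ℕ∞) = 2) (by decide)

variable [IsDomain A] [IsLocalRing A] [IsNoetherianRing A] [IsIntegrallyClosed A]

/-- Sections of powers of an invertible fibre ideal over a rational singularity. -/
theorem mem_pow_of_isRationalSing (hdim : ringKrullDim A = 2) (hA : Curv2.IsRationalSing A) (X : Scheme.{u})
    (f : X ⟶ Spec (CommRingCat.of A)) [IsProper f] [IsIntegral X] (hXn : Pi1.IsNormalScheme X)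
    (hbir : ∃ U : (Spec (CommRingCat.of A)).Opens, (U : Set (Spec (CommRingCat.of A))).Nonempty ∧ IsIso (f ∣_ U))
    (hE : BlowUp.IsEffCartierIdeal ((BlowUpLib.centre (maximalIdeal A)).comap f)) (n : ℕ) (a : A)
    (ha : ∀ U : X.affineOpens, BlowUpLib.strHom f U.1 a ∈ (((BlowUpLib.centre (maximalIdeal A)).comap f) ^ n).ideal U) :
    a ∈ maximalIdeal A ^ n := by
  haveI : IsDomain (CommRingCat.of A) := ‹IsDomain A›
  haveI : IsLocalRing (CommRingCat.of A) := ‹IsLocalRing A›
  haveI : IsNoetherianRing (CommRingCat.of A) := ‹IsNoetherianRing A›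
  haveI : IsIntegrallyClosed (CommRingCat.of A) := ‹IsIntegrallyClosed A›
  obtain ⟨hgen, hb⟩ := birational_of_isIso f hbir
  let M : Model (Spec (CommRingCat.of A)) := { Z := X, G := f, gen := hgen, bir := hb }
  haveI : IsProper M.G := ‹IsProper f›
  have hO : Sol.Sol (FibrePP.O (X := X)) := Sol.sol_of_hh (hA X f ‹_› ‹_› hXn hbir)
  refine mem_pow_of_forall (R := CommRingCat.of A) M hdim
    (fibreGen_of_isEffCartier M (maximalIdeal_ne_bot (A := A) hdim) hE) (fun x => (hXn x).2)
    ((Sol.sol_locRing_iff M).2 hO) n a fun x a₀ h₀ => (mem_iff M h₀ n a).1 ?_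
  obtain ⟨U, hU, hxU, -⟩ := exists_isAffineOpen_mem_and_subset (x := x) (U := ⊤) trivial
  rw [H23.StalkIdeal.sI_eq _ ⟨U, hU⟩ hxU, CDivEq.stk]
  have h1 := Ideal.mem_map_of_mem (X.presheaf.germ U x hxU).hom (ha ⟨U, hU⟩)
  rw [show (X.presheaf.germ U x hxU).hom (BlowUpLib.strHom f U a) = strStalk M x a from germ_strHom M hxU a] at h1
  exact h1

end Groth.Agent.RatSing
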