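import Mathlib
import Groth.Agent.RatSing.Rational
import Groth.Agent.NormSeq.Main
import Groth.Agent.Sol.Regular
import Groth.Agent.GeomIrrSpread.SmoothNeutral
import Groth.Agent.BlowUpLib.Glue
import Groth.Agent.Synt29.Normalization

/-!
# The blow-up of a rational singularity at its closed point is normal
-/

set_option autoImplicit false
set_option linter.style.haveILetI false
set_option linter.unusedSectionVars false
set_option backward.isDefEq.respectTransparency false
set_option backward.isDefEq.respectTransparency.types false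
set_option maxHeartbeats 400000

universe u

open CategoryTheory CategoryTheory.Limits AlgebraicGeometry TopologicalSpace IsLocalRing Polynomial
open Groth.Agent.NormSeq (Model locRing Nice)

noncomputable section

namespace Groth.Agent.RatSing

section Integral

variable {K : Type u} [Field K]

/-- Scaling an integral equation. -/
theorem isIntegral_mul {T : Subring K} {s z : K} {P : K[X]} (hP : P.Monic) (hz : P.eval z = 0)
    (h : ∀ i < P.natDegree, P.coeff i * s ^ (P.natDegree - i) ∈ T) : IsIntegral T (s * z) := by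
  have hmem : (↑(P.scaleRoots s).coeffs : Set K) ⊆ T := by
    intro c hc
    obtain ⟨i, hi, rfl⟩ := Polynomial.mem_coeffs_iff.1 hc
    rw [Polynomial.mem_support_iff, Polynomial.coeff_scaleRoots] at hi
    rw [Polynomial.coeff_scaleRoots]
    rcases (Polynomial.le_natDegree_of_ne_zero (left_ne_zero_of_mul hi)).lt_or_eq with hlt | rfl
    · exact h i hlt
    · simp [hP.coeff_natDegree, one_mem]
  refine ⟨(P.scaleRoots s).toSubring T hmem, (Polynomial.monic_toSubring _ _ hmem).2 ((Polynomial.monic_scaleRoots_iff s).2 hP), ?_⟩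
  rw [← Polynomial.eval_map]
  show (Polynomial.map T.subtype _).eval (s * z) = 0
  rw [Polynomial.map_toSubring]
  have h2 := Polynomial.scaleRoots_eval₂_eq_zero (RingHom.id K) (s := s) (p := P) (r := z) (by rwa [Polynomial.eval₂_id])
  simpa [Polynomial.eval₂_id] using h2

end Integral

variable {R : CommRingCat.{u}} [IsDomain R] [IsLocalRing R] [IsNoetherianRing R] [IsIntegrallyClosed R]

local notation "KK" => Scheme.functionField (Spec R)

theorem centre_eq_vanishingIdeal (hz : IsClosed ({(closedPoint R : ↥(Spec R))} : Set ↥(Spec R))) :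
    BlowUpLib.centre (A := R) (maximalIdeal R) = Scheme.IdealSheafData.vanishingIdeal (⟨_, hz⟩ : Closeds ↥(Spec R)) := by
  have hle : BlowUpLib.centre (A := R) (maximalIdeal R) ≤ Scheme.IdealSheafData.vanishingIdeal (⟨_, hz⟩ : Closeds ↥(Spec R)) := by
    rw [← Scheme.IdealSheafData.le_support_iff_le_vanishingIdeal]
    intro t ht
    exact (PointBlow.mem_support_centre_iff t).2 ht
  refine Scheme.IdealSheafData.ext_of_isAffine (le_antisymm (hle _) ?_)
  rw [BlowUpLib.centre_top]
  haveI : (Ideal.map (Scheme.ΓSpecIso R).inv.hom (maximalIdeal R)).IsMaximal :=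
    Ideal.map_isMaximal_of_equiv (Scheme.ΓSpecIso R).symm.commRingCatIsoToRingEquiv
  refine (Ideal.IsMaximal.eq_of_le ‹_› ?_ ?_).ge
  · intro htop
    have h1 : Scheme.IdealSheafData.vanishingIdeal (⟨_, hz⟩ : Closeds ↥(Spec R)) = ⊤ :=
      Scheme.IdealSheafData.ext_of_isAffine (by rw [htop]; rfl)
    have h2 : (⊤ : (Spec R).IdealSheafData) ≤ Scheme.IdealSheafData.vanishingIdeal (⟨_, hz⟩ : Closeds ↥(Spec R)) :=
      h1.ge
    rw [← Scheme.IdealSheafData.le_support_iff_le_vanishingIdeal, Scheme.IdealSheafData.support_top] at h2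
    exact h2 (Set.mem_singleton _)
  · have h3 := hle ⟨⊤, isAffineOpen_top _⟩
    rwa [BlowUpLib.centre_top] at h3

theorem nice_spec (hN : CAlg.IsNagata R) (hdim : ringKrullDim R = 2) : Nice (Spec R) := by
  refine NormSeq.Nice.of_nagata inferInstance inferInstance (GeomIrrSpread.isNormalScheme_spec R) (fun W => ?_) (fun z => ?_)
  · exact AlgSpDec.NagataLocal.isNagata_affineOpen (𝟙 (Spec R)) (fun _ : Unit => ⊤)
      (by simp) (fun _ => isAffineOpen_top _) (fun _ =>
        CAlgOdd.NagataFT.isNagata_of_ringEquiv (Scheme.ΓSpecIso R).commRingCatIsoToRingEquiv.symm hN) W.1 W.2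
  · letI : Algebra R ((Spec R).presheaf.stalk z) := (StructureSheaf.toStalk R z).hom.toAlgebra
    haveI : IsLocalization.AtPrime ((Spec R).presheaf.stalk z) z.asIdeal :=
      inferInstanceAs (IsLocalization.AtPrime ((Spec.structureSheaf R).presheaf.stalk z) z.asIdeal)
    rw [IsLocalization.AtPrime.ringKrullDim_eq_height z.asIdeal, ← hdim]
    exact Ideal.height_le_ringKrullDim_of_ne_top z.2.ne_top

/-- R normal modification with invertible closed fibre. -/
theorem exists_model (hN : CAlg.IsNagata R) (hdim : ringKrullDim R = 2) (hA : Curv2.IsRationalSing R) :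
    ∃ (M : Model (Spec R)) (_ : IsProper M.G), (∀ y : M.Z, IsIntegrallyClosed (M.Z.presheaf.stalk y)) ∧
      (∀ y : M.Z, ∃ a₀, FibreGen M y a₀) ∧ Sol.Sol (locRing M) := by
  have hz : IsClosed ({(closedPoint R : ↥(Spec R))} : Set ↥(Spec R)) :=
    (PrimeSpectrum.isClosed_singleton_iff_isMaximal _).2 (maximalIdeal.isMaximal R)
  have hd : ringKrullDim ((Spec R).presheaf.stalk (closedPoint R : Spec R)) = 2 := by
    letI : Algebra R ((Spec R).presheaf.stalk (closedPoint R : Spec R)) :=
      (StructureSheaf.toStalk R (closedPoint R)).hom.toAlgebra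
    haveI : IsLocalization.AtPrime ((Spec R).presheaf.stalk (closedPoint R : Spec R)) (maximalIdeal R) :=
      StructureSheaf.IsLocalization.to_stalk (R := R) (closedPoint R)
    rw [IsLocalization.AtPrime.ringKrullDim_eq_height (maximalIdeal R), IsLocalRing.maximalIdeal_height_eq_ringKrullDim, hdim]
  obtain ⟨Y, h, hYi, hY, hP, -, hbir, hcar, hoff⟩ := NormSeq.exists_blowUp_step (nice_spec hN hdim) hz hd
  haveI := hYi
  haveI := hP
  let M : Model (Spec R) := { Z := Y, G := h, gen := SurfSeq.map_generic h hbir, bir := hbir }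
  haveI : IsProper M.G := hP
  refine ⟨M, hP, fun y => (hY.normal y).2, ?_, ?_⟩
  · refine fibreGen_of_isEffCartier M (maximalIdeal_ne_bot (A := R) hdim) ?_
    rw [centre_eq_vanishingIdeal hz]
    exact hcar
  · have hU : ∃ U : (Spec R).Opens, (U : Set (Spec R)).Nonempty ∧ IsIso (h ∣_ U) := by
      let U : (Spec R).Opens := ⟨({(closedPoint R : ↥(Spec R))} : Set ↥(Spec R))ᶜ, hz.isOpen_compl⟩
      have hne : (U : Set (Spec R)).Nonempty := by
        refine ⟨genericPoint (Spec R), fun he => maximalIdeal_ne_bot (A := R) hdim ?_⟩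
        have h1 : (genericPoint (Spec R)).asIdeal = maximalIdeal R := congrArg PrimeSpectrum.asIdeal he
        rw [← h1, genericPoint_eq_bot_of_affine]
        rfl
      exact ⟨U, hne, Sol.isIso_restrict_of_stalk h hbir U hne fun x hx => hoff x hx⟩
    exact (Sol.sol_locRing_iff M).2 (Sol.sol_of_hh (hA Y h hP hYi hY.normal hU))

/-- The charts of the blow-up are integrally closed. -/
theorem mem_chart_of_isIntegral (hN : CAlg.IsNagata R) (hdim : ringKrullDim R = 2) (hA : Curv2.IsRationalSing R)
    {a : R} (ha : a ∈ maximalIdeal R) (ha0 : a ≠ 0) {z : KK} (hz : IsIntegral (chart (A := R) (K := KK) a) z) :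
    z ∈ chart (A := R) (K := KK) a := by
  classical
  obtain ⟨M, hP, hn, hgen, hsol⟩ := exists_model hN hdim hA
  obtain ⟨p, hp, hpz⟩ := hz
  let P : KK[X] := p.map (algebraMap (chart (A := R) (K := KK) a) KK)
  have hPm : P.Monic := hp.map _
  have hP0 : P.eval z = 0 := by rw [Polynomial.eval_map]; exact hpz
  have hrep : ∀ i, ∃ k, ∀ n, k ≤ n → ∃ b ∈ maximalIdeal R ^ n,
      P.coeff i = algebraMap R KK b / algebraMap R KK a ^ n := fun i => by
    obtain ⟨k, hk⟩ := exists_rep ha ha0 (p.coeff i).2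
    exact ⟨k, fun n hn => (hk n hn).imp fun b hb => ⟨hb.1, (Polynomial.coeff_map _ i).trans hb.2⟩⟩
  choose k hk using hrep
  obtain ⟨N, hN'⟩ : ∃ N, ∀ i < P.natDegree, k i ≤ N :=
    ⟨(Finset.range P.natDegree).sup k, fun i hi => Finset.le_sup (Finset.mem_range.2 hi)⟩
  have hne : algebraMap R KK a ≠ 0 := inj (A := R) ha0
  have hcoef : ∀ i < P.natDegree, ∃ b ∈ maximalIdeal R ^ N, ∀ d : KK,
      P.coeff i * (algebraMap R KK a ^ N / d) = algebraMap R KK b / d := fun i hi => by
    obtain ⟨b, hb, hbe⟩ := hk i N (hN' i hi)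
    exact ⟨b, hb, fun d => by rw [hbe, div_mul_div_cancel₀ (pow_ne_zero _ hne)]⟩
  have h1 : algebraMap R KK a ^ N * z ∈ (algebraMap R KK).range := by
    have hint : IsIntegral (algebraMap R KK).range (algebraMap R KK a ^ N * z) := by
      refine isIntegral_mul hPm hP0 fun i hi => ?_
      obtain ⟨e, he⟩ := Nat.exists_eq_succ_of_ne_zero (Nat.sub_ne_zero_of_lt hi)
      rw [he, pow_succ', ← mul_assoc]
      refine mul_mem ?_ (pow_mem (pow_mem (⟨a, rfl⟩ : algebraMap R KK a ∈ (algebraMap R KK).range) N) e)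
      obtain ⟨b, -, hbd⟩ := hcoef i hi
      have h2 := hbd 1
      rw [div_one, div_one] at h2
      rw [h2]
      exact ⟨_, rfl⟩
    obtain ⟨q, hq, hqz⟩ := hint
    obtain ⟨Q, hQ, -, hQm⟩ := Polynomial.lifts_and_degree_eq_and_monic
      (f := (algebraMap R KK).rangeRestrict)
      (Polynomial.mem_lifts_of_surjective (algebraMap R KK).rangeRestrict_surjective q) hq
    have h3 : Polynomial.eval₂ (algebraMap R KK) (algebraMap R KK a ^ N * z) Q = 0 := by
      rw [← hqz, ← hQ, Polynomial.eval₂_map]; rfl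
    obtain ⟨w, hw⟩ := IsIntegrallyClosed.isIntegral_iff.1 (⟨Q, hQm, h3⟩ : IsIntegral R (algebraMap R KK a ^ N * z))
    exact ⟨w, hw⟩
  obtain ⟨w, hw⟩ := h1
  have hwm : w ∈ maximalIdeal R ^ N := by
    refine mem_pow_of_forall M hdim hgen hn hsol N w fun y a₀ h₀ => ?_
    have hs : algebraMap R KK a ^ N / algebraMap R KK a₀ ^ N ∈ locRing M y := by
      rw [← div_pow]; exact pow_mem (h₀.2.2 a ha) N
    have hint : IsIntegral (locRing M y) (algebraMap R KK a ^ N / algebraMap R KK a₀ ^ N * z) := by
      refine isIntegral_mul hPm hP0 fun i hi => ?_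
      obtain ⟨e, he⟩ := Nat.exists_eq_succ_of_ne_zero (Nat.sub_ne_zero_of_lt hi)
      obtain ⟨b, hb, hbd⟩ := hcoef i hi
      rw [he, pow_succ', ← mul_assoc, hbd]
      exact mul_mem (div_pow_mem M h₀ N _ hb) (pow_mem hs e)
    rw [hw, mul_div_right_comm]
    exact NormSeq.isIntegrallyClosed_range M y (hn y) hint
  have h4 := div_mem_chart (A := R) (K := KK) a hwm
  rwa [hw, mul_div_cancel_left₀ _ (pow_ne_zero _ hne)] at h4

theorem isIntegrallyClosed_affineAlgebra (hN : CAlg.IsNagata R) (hdim : ringKrullDim R = 2)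
    (hA : Curv2.IsRationalSing R) {a : R} (ha : a ∈ maximalIdeal R) (ha0 : a ≠ 0) :
    IsIntegrallyClosed (BlowUp.affineAlgebra R (maximalIdeal R) a) := by
  letI : Algebra R KK := (algebraMap R KK).toAlgebra
  haveI : IsFractionRing R KK := (inferInstance : IsFractionRing R KK)
  have hu : ∀ y : Submonoid.powers a, IsUnit (Algebra.ofId R KK y) := fun y =>
    Ne.isUnit ((map_ne_zero_iff _ (IsFractionRing.injective R KK)).2 (by
      obtain ⟨n, hn⟩ := y.2
      rw [← hn]; exact pow_ne_zero n ha0))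
  let φ : Localization.Away a →ₐ[R] KK := IsLocalization.liftAlgHom hu
  have hφ : Function.Injective φ := by
    refine (IsLocalization.lift_injective_iff hu).2 fun x y => ?_
    rw [(IsLocalization.injective (Localization.Away a) (powers_le_nonZeroDivisors_of_noZeroDivisors ha0)).eq_iff]
    exact ((IsFractionRing.injective R KK).eq_iff).symm
  have hmap : (BlowUp.affineAlgebra R (maximalIdeal R) a).map φ = chart (A := R) (K := KK) a := by
    rw [BlowUp.affineAlgebra, AlgHom.map_adjoin, chart]
    congr 1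
    have hq : ∀ x : R, φ (IsLocalization.mk' (Localization.Away a) x ⟨a, Submonoid.mem_powers a⟩) =
        algebraMap R KK x / algebraMap R KK a := fun x => by
      rw [eq_div_iff ((map_ne_zero_iff _ (IsFractionRing.injective R KK)).2 ha0), ← φ.commutes x, ← φ.commutes a,
        ← map_mul]
      exact congrArg φ (IsLocalization.mk'_spec (Localization.Away a) x ⟨a, Submonoid.mem_powers a⟩)
    ext c
    constructor
    · rintro ⟨_, ⟨x, hx, rfl⟩, rfl⟩; exact ⟨x, hx, (hq x).symm⟩
    · rintro ⟨x, hx, rfl⟩; exact ⟨_, ⟨x, hx, rfl⟩, hq x⟩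
  let e : BlowUp.affineAlgebra R (maximalIdeal R) a ≃ₐ[R] chart (A := R) (K := KK) a :=
    (Subalgebra.equivMapOfInjective _ φ hφ).trans (Subalgebra.equivOfEq _ _ hmap)
  have hic : IsIntegrallyClosed (chart (A := R) (K := KK) a) := by
    haveI : IsFractionRing (chart (A := R) (K := KK) a) KK := by
      refine IsFractionRing.of_field _ _ fun z => ?_
      obtain ⟨x, y, -, hxy⟩ := IsFractionRing.div_surjective R z
      exact ⟨algebraMap R _ x, algebraMap R _ y, hxy.symm⟩
    refine (isIntegrallyClosed_iff KK).2 fun {z} hz => ?_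
    exact ⟨⟨z, mem_chart_of_isIntegral hN hdim hA ha ha0 hz⟩, rfl⟩
  exact IsIntegrallyClosed.of_equiv e.toRingEquiv.symm

theorem isNormalScheme_blowUp (hN : CAlg.IsNagata R) (hdim : ringKrullDim R = 2) (hA : Curv2.IsRationalSing R)
    {X : Scheme.{u}} (b : X ⟶ Spec R) (hb : BlowUp.IsBlowUp b (BlowUpLib.centre (A := R) (maximalIdeal R))) :
    Pi1.IsNormalScheme X := by
  obtain ⟨e, -⟩ := BlowUpLib.exists_iso hb (BlowUpLib.isBlowUp_local (maximalIdeal R))
  refine Synt29.isNormalScheme_of_iso e fun x => ?_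
  obtain ⟨⟨a, ha⟩, t, rfl⟩ := BlowUpLib.chart_covers (maximalIdeal R) x
  have ha0 : a ≠ 0 := by
    rintro rfl
    haveI : Subsingleton (Localization.Away (0 : R)) := IsLocalization.subsingleton (Submonoid.mem_powers (0 : R))
    haveI : Subsingleton (BlowUp.affineAlgebra R (maximalIdeal R) (0 : R)) := Subtype.val_injective.subsingleton
    exact t.2.ne_top ((Ideal.eq_top_iff_one _).2 (Subsingleton.elim (0 : BlowUp.affineAlgebra R (maximalIdeal R) (0 : R)) 1 ▸ zero_mem _))
  haveI := isIntegrallyClosed_affineAlgebra hN hdim hA ha ha0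
  haveI : IsDomain (Localization.Away a) :=
    IsLocalization.isDomain_localization (powers_le_nonZeroDivisors_of_noZeroDivisors ha0)
  obtain ⟨h1, h2⟩ := GeomIrrSpread.isNormalScheme_spec (BlowUp.affineAlgebra R (maximalIdeal R) a) t
  let ψ := (asIso ((BlowUpLib.chart (maximalIdeal R) ⟨a, ha⟩).stalkMap t)).commRingCatIsoToRingEquiv
  exact ⟨ψ.toMulEquiv.isDomain, IsIntegrallyClosed.of_equiv ψ.symm⟩

end Groth.Agent.RatSing
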