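import Mathlib
import Groth.Agent.RatSing.Rational
import Groth.Agent.RatSing.BlowNormal
import Groth.Agent.CMClosed.Basic
import Groth.Agent.CMPointLib.Basic
import Groth.Agent.CartExt.CycleSub
import Groth.Agent.RelPC17.BirFibre
import Groth.Agent.BirNormal.Basic
import Groth.Agent.Lib.BlowUpInt
import Groth.Agent.PointBlow.Local
import Groth.Agent.S9801
import Groth.Agent.S9686
import Groth.Agent.S9821

/-!
# The exceptional divisor of the blow-up of a rational singularity
-/

set_option autoImplicit false
set_option linter.style.haveILetI false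
set_option linter.unusedSectionVars false
set_option backward.isDefEq.respectTransparency false
set_option backward.isDefEq.respectTransparency.types false
set_option maxHeartbeats 800000

universe u

open CategoryTheory CategoryTheory.Limits AlgebraicGeometry TopologicalSpace IsLocalRing
open Groth.Agent.NormSeq (Model locRing)
open scoped Pointwise

noncomputable section

namespace Groth.Agent.RatSing

/-- Quotients of Cohen–Macaulay local rings by a regular element. -/
theorem isCMLocal_quot {A : Type u} [CommRing A] [IsLocalRing A] [IsNoetherianRing A]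
    [h : LocCoh.IsCohenMacaulayLocalRing A] {x : A} (hx : x ∈ maximalIdeal A) (hreg : IsSMulRegular A x) :
    LocCoh.IsCohenMacaulayLocalRing (A ⧸ Ideal.span {x}) := by
  haveI : Nontrivial (A ⧸ Ideal.span {x}) := Ideal.Quotient.nontrivial_iff.2 fun he =>
    (maximalIdeal.isMaximal A).ne_top (top_le_iff.1 (he ▸ (Ideal.span_singleton_le_iff_mem _).2 hx))
  haveI : IsLocalRing (A ⧸ Ideal.span {x}) :=
    IsLocalRing.of_surjective' (Ideal.Quotient.mk _) Ideal.Quotient.mk_surjective
  refine { supportDim_eq_depth := ?_ }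
  have hmax : (maximalIdeal A).map (Ideal.Quotient.mk (Ideal.span {x})) = maximalIdeal (A ⧸ Ideal.span {x}) :=
    map_maximalIdeal_of_surjective _ Ideal.Quotient.mk_surjective
  have hspan : Ideal.span {x} = x • (⊤ : Ideal A) := by simp [← Submodule.ideal_span_singleton_smul]
  have h2 : LocCoh.idealDepth (maximalIdeal A) (QuotSMulTop x A) =
      LocCoh.depth (A ⧸ Ideal.span {x}) (A ⧸ Ideal.span {x}) := by
    rw [LocCoh.depth, ← hmax, ← LC.idealDepth_quot_self_le]
    exact LC.idealDepth_congr _ (Submodule.quotEquivOfEq _ _ hspan.symm)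
  have h3 := h.supportDim_eq_depth
  rw [Module.supportDim_self_eq_ringKrullDim, ← ringKrullDim_quotient_span_singleton_succ_eq_ringKrullDim hreg hx,
    show LocCoh.depth A A = LocCoh.idealDepth (maximalIdeal A) A from rfl,
    ← LC.idealDepth_quotSMulTop_add_one (maximalIdeal A) (M := A) hx hreg, h2] at h3
  rw [Module.supportDim_self_eq_ringKrullDim]
  obtain ⟨d, hd⟩ := WithBot.ne_bot_iff_exists.1 (ringKrullDim_ne_bot (R := A ⧸ Ideal.span {x}))
  rw [← hd] at h3 ⊢
  have h4 : d + 1 = LocCoh.depth (A ⧸ Ideal.span {x}) (A ⧸ Ideal.span {x}) + 1 := WithBot.coe_eq_coe.1 h3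
  exact congrArg WithBot.some (WithTop.add_right_cancel ENat.one_ne_top h4)

variable {R : CommRingCat.{u}} [IsDomain R] [IsLocalRing R] [IsNoetherianRing R] [IsIntegrallyClosed R]

theorem mem_support_centre (t : ↥(Spec R)) :
    t ∈ ((BlowUpLib.centre (A := R) (maximalIdeal R)).support : Set ↥(Spec R)) ↔ t = closedPoint R :=
  PointBlow.mem_support_centre_iff t

/-- The ideal of the exceptional divisor. -/
abbrev exc {X : Scheme.{u}} (b : X ⟶ Spec R) : X.IdealSheafData :=
  BlowUp.exceptional b (BlowUpLib.centre (A := R) (maximalIdeal R))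

variable {X : Scheme.{u}} {b : X ⟶ Spec R} (hb : BlowUp.IsBlowUp b (BlowUpLib.centre (A := R) (maximalIdeal R)))

include hb in
/-- The blow-up of a rational singularity is a normal modification. -/
theorem blowUp_facts (hN : CAlg.IsNagata R) (hdim : ringKrullDim R = 2) (hA : Curv2.IsRationalSing R) :
    ∃ (_ : IsIntegral X) (_ : IsProper b), Pi1.IsNormalScheme X ∧
      ∃ U : (Spec R).Opens, (U : Set ↥(Spec R)).Nonempty ∧ IsIso (b ∣_ U) ∧
        ∀ t : ↥(Spec R), t ∉ U → t = closedPoint R := by
  haveI : IsProper b := BlowUpLib.isProper_of_isBlowUp (C := BlowUpLib.centre (A := R) (maximalIdeal R)) hb fun V => by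
    haveI : IsNoetherianRing Γ(Spec R, V.1) := IsLocallyNoetherian.component_noetherian V
    exact IsNoetherian.noetherian _
  have hz : IsClosed ({(closedPoint R : ↥(Spec R))} : Set ↥(Spec R)) := isClosed_singleton_closedPoint R
  let U : (Spec R).Opens := ⟨({(closedPoint R : ↥(Spec R))} : Set ↥(Spec R))ᶜ, hz.isOpen_compl⟩
  have hne : (U : Set ↥(Spec R)).Nonempty := by
    refine ⟨genericPoint (Spec R), fun he => maximalIdeal_ne_bot (A := R) hdim ?_⟩
    have h1 : (genericPoint (Spec R)).asIdeal = maximalIdeal R := congrArg PrimeSpectrum.asIdeal he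
    rw [← h1, genericPoint_eq_bot_of_affine]
    rfl
  haveI hiso : IsIso (b ∣_ U) := BlowUpLib.isIso_restrict hb U fun t ht hmem => ht ((mem_support_centre t).1 hmem)
  refine (Lib.BlowUpInt.isEmpty_or_birational hb).elim (fun hX => ?_) fun ⟨hX, _⟩ => ?_
  · obtain ⟨v, hv⟩ := hne
    exact (hX.false ((inv (b ∣_ U)) ⟨v, hv⟩).1).elim
  · exact ⟨hX, ‹_›, isNormalScheme_blowUp hN hdim hA b hb, U, hne, hiso,
      fun t ht => not_not.1 fun h => ht h⟩

variable [IsIntegral X] [IsProper b] (hXn : Pi1.IsNormalScheme X) (hdim : ringKrullDim R = 2)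
  {U : (Spec R).Opens} (hU : (U : Set ↥(Spec R)).Nonempty) [IsIso (b ∣_ U)]
  (hUc : ∀ t : ↥(Spec R), t ∉ U → t = closedPoint R)

omit [IsProper b] [IsIso (b ∣_ U)] in
theorem topologicalKrullDim_le_two (b : X ⟶ Spec R) [IsProper b] (hdim : ringKrullDim R = 2) {U : (Spec R).Opens}
    (hU : (U : Set ↥(Spec R)).Nonempty) [IsIso (b ∣_ U)] : topologicalKrullDim X ≤ (2 : ℕ) := by
  have hY : topologicalKrullDim ↥(Spec R) ≤ (2 : ℕ) :=
    RelPC17.BirFibre.dim_spec_le R 2 (by rw [hdim]; norm_cast)
  obtain ⟨hgen, hbir⟩ := birational_of_isIso b ⟨U, hU, ‹_›⟩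
  refine le_trans (S9686.result b 0 fun η hη => ?_) (by simpa using hY)
  have hη' : closure ({η} : Set X) = Set.univ := by
    rw [irreducibleComponents_eq_singleton] at hη
    exact hη
  have : η = genericPoint X := IsGenericPoint.eq hη' (genericPoint_spec X)
  subst this
  letI := (b.residueFieldMap (genericPoint X)).hom.toAlgebra
  haveI : Algebra.IsAlgebraic ((Spec R).residueField (b.base (genericPoint X))) (X.residueField (genericPoint X)) :=
    ⟨fun z => by
      obtain ⟨a, rfl⟩ := RelPC17.BirFibre.residueFieldMap_surjective b U (genericPoint X) (by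
        rw [hgen]
        exact ((genericPoint_spec ↥(Spec R)).mem_open_set_iff U.isOpen).2 (by rwa [Set.univ_inter])) z
      exact isAlgebraic_algebraMap a⟩
  rw [trdeg_eq_zero]
  simp

include hXn hU hdim hb in
/-- The exceptional divisor is Cohen–Macaulay. -/
theorem isCohenMacaulay_exceptional
    (e : ↥(exc b).subscheme) : LocCoh.IsCohenMacaulayLocalRing ((exc b).subscheme.presheaf.stalk e) := by
  haveI : IsLocallyNoetherian X := LocallyOfFiniteType.isLocallyNoetherian b
  let x := (exc b).subschemeι e
  haveI := S9801.result X hXn (topologicalKrullDim_le_two b hdim hU) x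
  obtain ⟨γ, hγ0, hγ⟩ := H23.StalkIdeal.exists_gen hb.1 x
  have hmem : γ ∈ maximalIdeal (X.presheaf.stalk x) := by
    refine le_maximalIdeal (CartExt.sI_ne_top (exc b) e) ?_
    rw [hγ]
    exact Ideal.mem_span_singleton_self γ
  haveI := isCMLocal_quot hmem (isSMulRegular_iff_mem_nonZeroSMulDivisors.2 fun c hc => by
    rw [smul_eq_mul, mul_comm] at hc
    exact (mem_nonZeroDivisors_iff_right.1 hγ0) c hc)
  refine CMClosed.of_ringEquiv (R := _ ⧸ Ideal.span {γ}) ((Ideal.quotEquivOfEq (I := Ideal.span {γ}) ?_).trans
    (RingHom.quotientKerEquivOfSurjective ((exc b).subschemeι.stalkMap_surjective e)))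
  rw [CartExt.ker_subschemeι_stalk, hγ]

include hb hXn hU hUc hdim in
/-- The exceptional divisor has dimension one. -/
theorem topologicalKrullDim_exceptional :
    topologicalKrullDim ↥(exc b).subscheme = 1 := by
  let I := exc b
  show topologicalKrullDim ↥I.subscheme = 1
  haveI : IsLocallyNoetherian X := LocallyOfFiniteType.isLocallyNoetherian b
  haveI : CompactSpace X := QuasiCompact.compactSpace_of_compactSpace b
  have hsupp : Set.range I.subschemeι = b ⁻¹' {closedPoint R} := by
    rw [I.range_subschemeι]
    show (((BlowUpLib.centre (A := R) (maximalIdeal R)).comap b).support : Set X) = _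
    rw [Scheme.IdealSheafData.support_comap, TopologicalSpace.Closeds.coe_preimage]
    ext t
    exact mem_support_centre _
  have hle : topologicalKrullDim ↥I.subscheme ≤ (1 : ℕ) := by
    refine le_trans ?_ (RelPC17.BirFibre.fibre_dim_le_one b (RelPC17.BirFibre.dim_spec_le R 2 (by rw [hdim]; norm_cast))
      U hU (closedPoint R))
    have hcod : ∀ e, I.subschemeι e ∈ b ⁻¹' {(closedPoint R : ↥(Spec R))} := fun e => hsupp ▸ ⟨e, rfl⟩
    exact ((b.fiberHomeo (closedPoint R)).symm.isEmbedding.comp
      (I.subschemeι.isEmbedding.codRestrict _ hcod)).isInducing.topologicalKrullDim_le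
  refine le_antisymm (by exact_mod_cast hle) ?_
  by_contra hlt
  have h0 : topologicalKrullDim ↥I.subscheme ≤ 0 := by
    rw [not_le] at hlt
    generalize topologicalKrullDim ↥I.subscheme = d at hlt
    cases d with
    | bot => exact bot_le
    | coe d => exact WithBot.coe_le_coe.2 (Order.lt_one_iff.1 (WithBot.coe_lt_coe.1 hlt)).le
  haveI : Finite ↥I.subscheme := by
    haveI : NoetherianSpace X := by
      haveI : IsNoetherian X := {}
      infer_instance
    haveI : NoetherianSpace ↥I.subscheme := I.subschemeι.isEmbedding.isInducing.noetherianSpace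
    have hmax := Order.krullDim_nonpos_iff_forall_isMax.1 h0
    haveI := (NoetherianSpace.finite_irreducibleComponents (α := ↥I.subscheme)).to_subtype
    refine Finite.of_injective (fun e : ↥I.subscheme => (⟨closure {e}, isIrreducible_singleton.closure, fun s hs hse => ?_⟩ :
      irreducibleComponents ↥I.subscheme)) fun e e' h => ?_
    · exact subset_closure.trans (hmax ⟨closure {e}, isIrreducible_singleton.closure, isClosed_closure⟩
        (b := ⟨closure s, hs.closure, isClosed_closure⟩) (hse.trans subset_closure))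
    · exact (inseparable_iff_closure_eq.2 (congrArg Subtype.val h)).eq
  have hfin : ∀ t : ↥(Spec R), (b ⁻¹' {t}).Finite := fun t => by
    by_cases ht : t ∈ U
    · refine Set.Subsingleton.finite fun x hx y hy => ?_
      have h := (b ∣_ U).isEmbedding.injective (a₁ := ⟨x, show b x ∈ U from hx.symm ▸ ht⟩)
        (a₂ := ⟨y, show b y ∈ U from hy.symm ▸ ht⟩)
        (Subtype.ext (by rw [morphismRestrict_base_coe, morphismRestrict_base_coe]; exact hx.trans hy.symm))
      exact congrArg Subtype.val h
    · rw [hUc t ht, ← hsupp]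
      exact Set.finite_range _
  haveI : LocallyQuasiFinite b := LocallyQuasiFinite.of_finite_preimage_singleton b hfin
  haveI : IsFinite b := (IsFinite.iff_isProper_and_locallyQuasiFinite b).2 ⟨inferInstance, inferInstance⟩
  obtain ⟨hgen, hbir⟩ := birational_of_isIso b ⟨U, hU, ‹_›⟩
  haveI := hbir
  haveI := BirNormal.isIso_stalkSpecializes_of_eq (X := Spec R) hgen (specializes_of_eq hgen)
  haveI : IsIso b := by
    refine BirNormal.isIso_of_isIntegralHom b (fun V hne hV => ?_) hgen ((ConcreteCategory.isIso_iff_bijective _).1 ?_)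
    · exact (S9821.result (Spec R)).1 (GeomIrrSpread.isNormalScheme_spec R) V hV
    · infer_instance
  -- the maximal ideal would be principal
  obtain ⟨x, hx⟩ := b.surjective (closedPoint R)
  obtain ⟨γ, -, hγ⟩ := H23.StalkIdeal.exists_gen hb.1 x
  let M : Model (Spec R) := { Z := X, G := b, gen := hgen, bir := hbir }
  have hbij : Function.Bijective (strStalk M x) := by
    have h1 : Function.Bijective (StructureSheaf.toStalk R (b x)).hom := by
      letI : Algebra R ((Spec R).presheaf.stalk (b x)) := (StructureSheaf.toStalk R (b x)).hom.toAlgebra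
      haveI : IsLocalization.AtPrime ((Spec R).presheaf.stalk (b x)) (b x).asIdeal :=
        inferInstanceAs (IsLocalization.AtPrime ((Spec.structureSheaf R).presheaf.stalk (b x)) (b x).asIdeal)
      exact (IsLocalization.atUnits R (b x).asIdeal.primeCompl (S := (Spec R).presheaf.stalk (b x)) fun s hs =>
        not_not.1 fun hu => hs (by rw [hx]; exact hu)).bijective
    have h2 := (ConcreteCategory.isIso_iff_bijective (b.stalkMap x)).1 inferInstance
    exact h2.comp h1
  have hs := sI_pow_centre M (maximalIdeal R) 1 x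
  rw [pow_one, pow_one, hγ] at hs
  obtain ⟨r, rfl⟩ := hbij.2 γ
  have hmr : maximalIdeal R = Ideal.span {r} := by
    rw [← Ideal.comap_map_of_bijective (strStalk M x) hbij (I := maximalIdeal R), ← hs,
      ← Set.image_singleton, ← Ideal.map_span, Ideal.comap_map_of_bijective _ hbij]
  have h1 := Ideal.height_le_one_of_isPrincipal_of_mem_minimalPrimes (Ideal.span {r}) (maximalIdeal R) (by
    rw [← hmr, Ideal.minimalPrimes_eq_subsingleton_self]
    rfl)
  have h2 := IsLocalRing.maximalIdeal_height_eq_ringKrullDim (R := R)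
  rw [hdim] at h2
  rw [WithBot.coe_eq_coe.1 h2] at h1
  exact absurd h1 (by decide)

end Groth.Agent.RatSing
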