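import Mathlib
import Groth.Agent.RatSing.Powers
import Groth.Agent.CycLib.SamuelAdd

/-!
# The associated graded ring of a split reduction has a linear Hilbert function
-/

set_option autoImplicit false
set_option linter.style.haveILetI false
set_option linter.unusedSectionVars false
set_option maxHeartbeats 800000

universe u

open IsLocalRing

noncomputable section

namespace Groth.Agent.RatSing

variable {A : Type u} [CommRing A] [IsDomain A] [IsLocalRing A] [IsNoetherianRing A]
  {K : Type u} [Field K] [Algebra A K] [IsFractionRing A K] {D : ℕ} {f g : A}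

local notation "ι" => algebraMap A K

/-- On the chart of `f` forms of higher degree divide by `f` into lower powers. -/
theorem div_f_mem_Pw (h : Red A D f g) {k : ℕ} {z : A} (hz : z ∈ maximalIdeal A ^ (k + D)) :
    ι z / ι f ∈ Pw A k {ι g / ι f} := by
  rw [pow_add] at hz
  induction hz using Submodule.mul_induction_on' with
  | mem_mul_mem p hp q hq => rw [map_mul, mul_div_assoc]; exact mem_Pw hp (div_f_mem h hq)
  | add a _ b _ ha hb => rw [map_add, add_div]; exact add_mem ha hb

variable [IsIntegrallyClosed A]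

/-- An element lying in the extended powers on both charts comes from the power. -/
theorem exists_pow_of_mem_Pw (h : Red A D f g) (hs : Split A (K := K) f g) {k : ℕ} {x : K}
    (h1 : x ∈ Pw A k {ι g / ι f}) (h2 : x ∈ Pw A k {ι f / ι g}) : ∃ a ∈ maximalIdeal A ^ k, ι a = x := by
  obtain ⟨a, rfl⟩ := exists_of_mem_both (Pw_le_ic _ _ x h1) (Pw_le_ic _ _ x h2)
  exact ⟨a, mem_pow_of_mem_Pw h hs k a h1 h2, rfl⟩

/-- Forms decompose along the reduction. -/
theorem exists_decomp (h : Red A D f g) (hs : Split A (K := K) f g) {n : ℕ} {z : A}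
    (hz : z ∈ maximalIdeal A ^ (n + D + D)) :
    ∃ a ∈ maximalIdeal A ^ (n + D), ∃ b ∈ maximalIdeal A ^ (n + D), z = f * a + g * b := by
  have hf := inj (K := K) h.f_ne
  have hg := inj (K := K) h.g_ne
  obtain ⟨p, hp, q, hq, hpq⟩ := split_Pw hs n (div_fg_mem h
    (show z ∈ maximalIdeal A ^ (2 * D + n) by rwa [show 2 * D + n = n + D + D by ring]) :
      ι z / (ι f * ι g) ∈ Pw A n {ι g / ι f, ι f / ι g})
  rw [div_eq_iff (mul_ne_zero hf hg)] at hpq
  have hgp : ι g * p ∈ Pw A (n + D) {ι g / ι f} := by rw [add_comm n D]; exact mul_Pw h.g_mem hp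
  have hgq : ι g * q ∈ Pw A (n + D) {ι f / ι g} := by rw [add_comm n D]; exact mul_Pw h.g_mem hq
  have hfp : ι f * p ∈ Pw A (n + D) {ι g / ι f} := by rw [add_comm n D]; exact mul_Pw h.f_mem hp
  have hfq : ι f * q ∈ Pw A (n + D) {ι f / ι g} := by rw [add_comm n D]; exact mul_Pw h.f_mem hq
  have hea : ι z / ι f - ι g * p = -(ι g * q) := by
    field_simp
    linear_combination hpq
  have heb : ι z / ι g + ι f * q = ι f * p := by
    field_simp
    linear_combination hpq
  obtain ⟨a, ha, hea'⟩ := exists_pow_of_mem_Pw h hs (x := ι z / ι f - ι g * p)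
    (sub_mem (div_f_mem_Pw h hz) hgp) (hea ▸ neg_mem hgq)
  obtain ⟨b, hb, heb'⟩ := exists_pow_of_mem_Pw h hs (x := ι f * p) hfp (heb ▸ add_mem (div_f_mem_Pw h.symm hz) hfq)
  refine ⟨a, ha, b, hb, IsFractionRing.injective A K ?_⟩
  rw [map_add, map_mul, map_mul, hea', heb']
  field_simp
  ring

/-- Relations between the two forms are the obvious ones. -/
theorem exists_relation (h : Red A D f g) (hs : Split A (K := K) f g) {n : ℕ} {a b : A}
    (ha : a ∈ maximalIdeal A ^ (n + D)) (hb : b ∈ maximalIdeal A ^ (n + D)) (hab : f * a + g * b = 0) :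
    ∃ c ∈ maximalIdeal A ^ n, a = g * c ∧ b = -(f * c) := by
  have hf := inj (K := K) h.f_ne
  have hg := inj (K := K) h.g_ne
  have hab' : ι f * ι a + ι g * ι b = 0 := by rw [← map_mul, ← map_mul, ← map_add, hab, map_zero]
  have he : ι a / ι g = ι (-b) / ι f := by
    rw [map_neg]
    field_simp
    linear_combination hab'
  obtain ⟨c, hc, hc'⟩ := exists_pow_of_mem_Pw h hs (x := ι a / ι g) (he ▸ div_f_mem_Pw h (neg_mem hb))
    (div_f_mem_Pw h.symm ha)
  refine ⟨c, hc, IsFractionRing.injective A K ?_, IsFractionRing.injective A K ?_⟩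
  · rw [map_mul, hc']; field_simp
  · rw [map_neg, map_mul, hc', he, map_neg]; field_simp

variable (A) in
/-- The graded pieces. -/
abbrev Gr (n : ℕ) : Type u :=
  ↥(maximalIdeal A ^ n) ⧸ Submodule.comap (maximalIdeal A ^ n).subtype (maximalIdeal A ^ (n + 1))

/-- Multiplication by a form between powers. -/
def mulTo {r : A} {k : ℕ} (hr : r ∈ maximalIdeal A ^ k) (n : ℕ) :
    ↥(maximalIdeal A ^ n) →ₗ[A] ↥(maximalIdeal A ^ (n + k)) :=
  LinearMap.codRestrict (maximalIdeal A ^ (n + k) : Ideal A) (r • (maximalIdeal A ^ n : Ideal A).subtype) fun x => by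
    rw [add_comm n k, pow_add]
    exact Ideal.mul_mem_mul hr x.2

theorem mulTo_val {r : A} {k : ℕ} (hr : r ∈ maximalIdeal A ^ k) (n : ℕ) (x : ↥(maximalIdeal A ^ n)) :
    (mulTo hr n x : A) = r * x := rfl

/-- Multiplication by a form on the graded pieces. -/
def grMul {r : A} {k : ℕ} (hr : r ∈ maximalIdeal A ^ k) (n : ℕ) : Gr A n →ₗ[A] Gr A (n + k) :=
  Submodule.mapQ _ _ (mulTo hr n) fun x hx => by
    show r * (x : A) ∈ maximalIdeal A ^ (n + k + 1)
    rw [show n + k + 1 = k + (n + 1) by ring, pow_add]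
    exact Ideal.mul_mem_mul hr hx

theorem grMul_mk {r : A} {k : ℕ} (hr : r ∈ maximalIdeal A ^ k) (n : ℕ) (x : ↥(maximalIdeal A ^ n)) :
    grMul hr n (Submodule.Quotient.mk x) = Submodule.Quotient.mk (mulTo hr n x) := rfl

theorem length_gr_add (n : ℕ) : Module.length A (A ⧸ maximalIdeal A ^ (n + 1)) =
    Module.length A (Gr A n) + Module.length A (A ⧸ maximalIdeal A ^ n) := by
  refine Module.length_eq_add_of_exact (Submodule.mapQ _ _ (maximalIdeal A ^ n).subtype le_rfl)
    (Submodule.factor (Ideal.pow_le_pow_right n.le_succ)) ?_ (Submodule.factor_surjective _) ?_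
  · rw [← LinearMap.ker_eq_bot, Submodule.ker_mapQ, Submodule.mkQ_map_self]
  · rw [LinearMap.exact_iff]
    refine le_antisymm (fun x hx => ?_) ?_
    · obtain ⟨y, rfl⟩ := Submodule.Quotient.mk_surjective _ x
      rw [LinearMap.mem_ker] at hx
      have hy : y ∈ maximalIdeal A ^ n := (Submodule.Quotient.mk_eq_zero _).1 hx
      exact ⟨Submodule.Quotient.mk ⟨y, hy⟩, rfl⟩
    · rintro _ ⟨x, rfl⟩
      obtain ⟨y, rfl⟩ := Submodule.Quotient.mk_surjective _ x
      exact (Submodule.Quotient.mk_eq_zero _).2 y.2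

theorem length_pow_ne_top (n : ℕ) : Module.length A (A ⧸ maximalIdeal A ^ n) ≠ ⊤ :=
  CycLib.length_quot_pow_ne_top (maximalIdeal A) (n := 1) (by rw [pow_one]) A n (by rw [smul_eq_mul, Ideal.mul_top])

theorem length_gr_ne_top (n : ℕ) : Module.length A (Gr A n) ≠ ⊤ := fun h => by
  have h1 := length_pow_ne_top (A := A) (n + 1)
  rw [length_gr_add, h, top_add] at h1
  exact h1 rfl

/-- The second differences of the Hilbert function along the reduction vanish. -/
theorem length_gr_rec (h : Red A D f g) (hs : Split A (K := K) f g) (n : ℕ) :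
    Module.length A (Gr A (n + D)) + Module.length A (Gr A (n + D)) =
      Module.length A (Gr A n) + Module.length A (Gr A (n + D + D)) := by
  rw [← Module.length_prod A (Gr A (n + D)) (Gr A (n + D))]
  refine Module.length_eq_add_of_exact ((grMul h.g_mem n).prod (-(grMul h.f_mem n)))
    (LinearMap.coprod (grMul h.f_mem (n + D)) (grMul h.g_mem (n + D))) ?_ ?_ ?_
  · rw [← LinearMap.ker_eq_bot, eq_bot_iff]
    intro x hx
    obtain ⟨c, rfl⟩ := Submodule.Quotient.mk_surjective _ x
    rw [LinearMap.mem_ker, LinearMap.prod_apply] at hx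
    obtain ⟨h1, h2⟩ := Prod.mk.injEq .. ▸ hx
    rw [grMul_mk, Submodule.Quotient.mk_eq_zero] at h1
    rw [LinearMap.neg_apply, neg_eq_zero, grMul_mk, Submodule.Quotient.mk_eq_zero] at h2
    change g * (c : A) ∈ maximalIdeal A ^ (n + D + 1) at h1
    change f * (c : A) ∈ maximalIdeal A ^ (n + D + 1) at h2
    rw [add_right_comm] at h1 h2
    obtain ⟨c', hc', e1, -⟩ := exists_relation (K := K) h hs h1 (neg_mem h2)
      (show f * (g * (c : A)) + g * -(f * (c : A)) = 0 by ring)
    rw [Submodule.mem_bot, Submodule.Quotient.mk_eq_zero]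
    show (c : A) ∈ maximalIdeal A ^ (n + 1)
    rwa [mul_left_cancel₀ h.g_ne e1]
  · intro z
    obtain ⟨z, rfl⟩ := Submodule.Quotient.mk_surjective _ z
    obtain ⟨a, ha, b, hb, e⟩ := exists_decomp (K := K) h hs z.2
    refine ⟨(Submodule.Quotient.mk ⟨a, ha⟩, Submodule.Quotient.mk ⟨b, hb⟩), ?_⟩
    rw [LinearMap.coprod_apply, grMul_mk, grMul_mk, ← Submodule.Quotient.mk_add]
    exact congrArg _ (Subtype.ext e.symm)
  · rw [LinearMap.exact_iff]
    refine le_antisymm (fun x hx => ?_) ?_
    · obtain ⟨x, y⟩ := x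
      obtain ⟨a, rfl⟩ := Submodule.Quotient.mk_surjective _ x
      obtain ⟨b, rfl⟩ := Submodule.Quotient.mk_surjective _ y
      rw [LinearMap.mem_ker, LinearMap.coprod_apply, grMul_mk, grMul_mk, ← Submodule.Quotient.mk_add,
        Submodule.Quotient.mk_eq_zero] at hx
      change f * (a : A) + g * (b : A) ∈ maximalIdeal A ^ (n + D + D + 1) at hx
      rw [show n + D + D + 1 = n + 1 + D + D by ring] at hx
      obtain ⟨a', ha', b', hb', e⟩ := exists_decomp (K := K) h hs hx
      have ha1 : (a : A) - a' ∈ maximalIdeal A ^ (n + D) :=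
        sub_mem a.2 (Ideal.pow_le_pow_right (by omega) ha')
      have hb1 : (b : A) - b' ∈ maximalIdeal A ^ (n + D) :=
        sub_mem b.2 (Ideal.pow_le_pow_right (by omega) hb')
      obtain ⟨c, hc, e1, e2⟩ := exists_relation (K := K) h hs ha1 hb1 (by linear_combination e)
      refine ⟨Submodule.Quotient.mk ⟨c, hc⟩, ?_⟩
      rw [LinearMap.prod_apply]
      refine Prod.ext ?_ ?_
      · show grMul h.g_mem n _ = _
        rw [grMul_mk, Submodule.Quotient.eq]
        show g * c - (a : A) ∈ maximalIdeal A ^ (n + D + 1)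
        rw [show g * c - (a : A) = -a' by linear_combination -e1, add_right_comm]
        exact neg_mem ha'
      · simp only [Function.prod, LinearMap.neg_apply]
        rw [grMul_mk, ← Submodule.Quotient.mk_neg, Submodule.Quotient.eq]
        show -(f * c) - (b : A) ∈ maximalIdeal A ^ (n + D + 1)
        rw [show -(f * c) - (b : A) = -b' by linear_combination -e2, add_right_comm]
        exact neg_mem hb'
    · rintro _ ⟨c, rfl⟩
      obtain ⟨c, rfl⟩ := Submodule.Quotient.mk_surjective _ c
      rw [LinearMap.mem_ker, LinearMap.prod_apply]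
      simp only [Function.prod, LinearMap.neg_apply]
      rw [LinearMap.coprod_apply, grMul_mk, grMul_mk, map_neg, grMul_mk, grMul_mk, ← sub_eq_add_neg, ← Submodule.Quotient.mk_sub,
        Submodule.Quotient.mk_eq_zero]
      show f * (g * (c : A)) - g * (f * (c : A)) ∈ maximalIdeal A ^ (n + D + D + 1)
      rw [show f * (g * (c : A)) - g * (f * (c : A)) = 0 by ring]
      exact zero_mem _

/-- A function with vanishing second differences that is eventually linear is linear. -/
theorem linear_of_rec {h : ℕ → ℚ} {D N : ℕ} (hD : 0 < D) {α β : ℚ}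
    (hrec : ∀ n, h (n + D) + h (n + D) = h n + h (n + D + D)) (hev : ∀ n, N ≤ n → h n = α * n + β) (n : ℕ) :
    h n = α * n + β := by
  suffices key : ∀ k n, N ≤ n + k → h n = α * n + β from key N n (Nat.le_add_left N n)
  intro k
  induction k with
  | zero => exact fun n hn => hev n hn
  | succ k ih =>
    intro n hn
    have h1 := hrec n
    rw [ih (n + D) (by omega), ih (n + D + D) (by omega)] at h1
    push_cast at h1
    linarith

end Groth.Agent.RatSing
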