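import Mathlib
import Groth.Agent.Lib.DivisorExt
import Groth.Agent.Lib.CurveOnSurf
import Groth.Agent.Lib.KoszulSheaf
import Groth.Agent.QCoh.TensorSections
import Groth.Agent.QCoh.SubCompare
import Groth.Agent.PPSheaf.Gr

/-!
# Tensor powers of an invertible ideal and their sequences
-/

set_option autoImplicit false
set_option linter.style.haveILetI false
set_option linter.unusedSectionVars false
set_option backward.isDefEq.respectTransparency false
set_option backward.isDefEq.respectTransparency.types false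
set_option maxHeartbeats 800000

universe u

open CategoryTheory CategoryTheory.Limits AlgebraicGeometry TopologicalSpace Opposite
open scoped Groth.Agent.H23.PicMul

noncomputable section

namespace Groth.Agent.RatSing

variable {X : Scheme.{u}} (I : X.IdealSheafData)

/-- The tensor powers of the ideal. -/
abbrev pw (n : ℕ) : X.Modules := CohB1.tensorPow (ClSub.idealMod I) n

/-- Multiplication by the ideal. -/
def step (n : ℕ) : pw I (n + 1) ⟶ pw I n := DivisorExt.mulIdeal I (pw I n)

/-- Tensor powers of the ideal as functions. -/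
def toFn : ∀ n, pw I n ⟶ Coh.structureModule X
  | 0 => 𝟙 _
  | n + 1 => step I n ≫ toFn n

/-- The quotient of consecutive powers. -/
abbrev pwQuot (n : ℕ) : X.Modules := CohB1.tensorMod (pw I n) (ClSub.quotMod I)

theorem isQCoh_pw : ∀ n, Coh.IsQCoh (pw I n)
  | 0 => QCoh.isQCoh_structureModule
  | n + 1 => KFlatLib.isQCoh_tensor (isQCoh_pw n) (PPSheaf.isQCoh_idealMod I)

variable (hI : PicF.IsInvertible (ClSub.idealMod I))

include hI in
theorem isInvertible_pw (n : ℕ) : PicF.IsInvertible (pw I n) := H23.PicMul.isInvertible_tensorPow hI n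

include hI in
theorem mono_step (n : ℕ) : Mono (step I n) := by
  haveI := CurveOnSurf.isEquivalence_tensor (isInvertible_pw I hI n)
  haveI : Mono (ClSub.idealModι I) := inferInstanceAs (Mono (kernel.ι _))
  haveI : Mono ((DCoh.tensorBi.obj (pw I n)).map (ClSub.idealModι I)) := inferInstance
  exact mono_comp _ _

include hI in
theorem mono_toFn : ∀ n, Mono (toFn I n)
  | 0 => inferInstanceAs (Mono (𝟙 _))
  | n + 1 => by
    haveI := mono_step I hI n
    haveI := mono_toFn n
    exact mono_comp _ _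

omit hI in
theorem shortExact_mulIdeal (M : X.Modules) (hM : PicF.IsInvertible M) :
    ∃ g : M ⟶ (DCoh.tensorBi.obj M).obj (ClSub.quotMod I), ∃ w,
      (ShortComplex.mk (DivisorExt.mulIdeal I M) g w).ShortExact := by
  haveI := CurveOnSurf.isEquivalence_tensor hM
  have hS : ((ShortComplex.mk (ClSub.idealModι I) (ClSub.toSubscheme I) (kernel.condition _)).map
      (DCoh.tensorBi.obj M)).ShortExact := (DivisorExt.ideal_shortExact I).map_of_exact _
  let u := KFlatLib.tensorUnitIso M
  let e₁ := Iso.refl ((DCoh.tensorBi.obj M).obj (ClSub.idealMod I))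
  let e₃ := Iso.refl ((DCoh.tensorBi.obj M).obj (ClSub.quotMod I))
  have w : DivisorExt.mulIdeal I M ≫ (u.inv ≫ (DCoh.tensorBi.obj M).map (ClSub.toSubscheme I)) = 0 := by
    show ((DCoh.tensorBi.obj M).map (ClSub.idealModι I) ≫ u.hom) ≫ _ = 0
    rw [Category.assoc, u.hom_inv_id_assoc, ← Functor.map_comp, ClSub.idealModι, kernel.condition, Functor.map_zero]
  refine ⟨_, w, ShortComplex.shortExact_of_iso (ShortComplex.isoMk e₁ u e₃ ?_ ?_) hS⟩
  · exact Category.id_comp _
  · show u.hom ≫ u.inv ≫ _ = (DCoh.tensorBi.obj M).map (ClSub.toSubscheme I) ≫ 𝟙 _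
    rw [u.hom_inv_id_assoc, Category.comp_id]

include hI in
/-- The sequence of consecutive powers. -/
theorem exists_shortExact (n : ℕ) : ∃ g : pw I n ⟶ pwQuot I n, ∃ w,
    (ShortComplex.mk (step I n) g w).ShortExact :=
  shortExact_mulIdeal I (pw I n) (isInvertible_pw I hI n)

/-- Values on an affine open. -/
theorem range_toFn : ∀ (n : ℕ) (V : X.affineOpens) (f : Γ(X, V.1)),
    (∃ s, OmegaSh.fnSect X V.1 ((toFn I n).app V.1 s) = f) ↔ f ∈ (I ^ n).ideal V := by
  intro n
  induction n with
  | zero =>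
    intro V f
    refine ⟨fun _ => ?_, fun _ => ⟨f, rfl⟩⟩
    rw [Scheme.IdealSheafData.ideal_pow, Pi.pow_apply, pow_zero, Ideal.one_eq_top]
    trivial
  | succ n ih =>
    intro V f
    rw [Scheme.IdealSheafData.ideal_pow, Pi.pow_apply, pow_succ]
    have ih' : ∀ g, (∃ s, OmegaSh.fnSect X V.1 ((toFn I n).app V.1 s) = g) ↔ g ∈ I.ideal V ^ n := fun g => by
      rw [ih V g, Scheme.IdealSheafData.ideal_pow, Pi.pow_apply]
    have hval : ∀ a b, OmegaSh.fnSect X V.1 ((toFn I (n + 1)).app V.1 (QCoh.tmS (pw I n) _ a b)) =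
        OmegaSh.idealSect I V.1 b * OmegaSh.fnSect X V.1 ((toFn I n).app V.1 a) := fun a b => by
      refine (congrArg (fun z => OmegaSh.fnSect X V.1 ((toFn I n).app V.1 z))
        (DivisorExt.mulIdeal_tmS I (pw I n) a b)).trans ?_
      rw [Scheme.Modules.Hom.app_smul]
      rfl
    constructor
    · rintro ⟨s, rfl⟩
      obtain ⟨t, rfl⟩ := (QCoh.bijective_tmLin (isQCoh_pw I n) (PPSheaf.isQCoh_idealMod I) V.2).2 s
      induction t using TensorProduct.induction_on with
      | zero =>
        rw [map_zero]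
        erw [map_zero, map_zero]
        exact zero_mem _
      | tmul a b =>
        rw [QCoh.tmLin_tmul]
        erw [hval a b]
        rw [mul_comm (OmegaSh.idealSect I V.1 b)]
        exact Ideal.mul_mem_mul ((ih' _).1 ⟨a, rfl⟩) (OmegaLib.idealSect_mem I V b)
      | add x y hx hy =>
        rw [map_add]
        erw [map_add, map_add]
        exact add_mem hx hy
    · intro hf
      refine Submodule.mul_induction_on hf (fun g hg b hb => ?_) ?_
      · obtain ⟨a, rfl⟩ := (ih' g).2 hg
        obtain ⟨c, rfl⟩ := OmegaLib.exists_of_mem I V b hb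
        exact ⟨QCoh.tmS (pw I n) _ a c, by rw [hval, mul_comm]⟩
      · rintro x y ⟨s, rfl⟩ ⟨t, rfl⟩
        exact ⟨s + t, by rw [map_add, map_add]⟩

include hI in
/-- A global function lying locally in the power comes from a global section. -/
theorem exists_of_forall (n : ℕ) (f : Γ(X, ⊤))
    (hf : ∀ V : X.affineOpens, X.presheaf.map (homOfLE (le_top : V.1 ≤ ⊤)).op f ∈ (I ^ n).ideal V) :
    ∃ s, OmegaSh.fnSect X ⊤ ((toFn I n).app ⊤ s) = f := by
  haveI := mono_toFn I hI n
  let S := ShortComplex.mk (toFn I n) (cokernel.π (toFn I n)) (cokernel.condition _)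
  have hS : S.ShortExact :=
    { exact := ShortComplex.exact_of_g_is_cokernel _ (cokernelIsCokernel _) }
  obtain ⟨s, hs⟩ := (Lib.KoszulSheaf.sections_exact hS ⊤).2 (show Γ(Coh.structureModule X, ⊤) from f) (by
    refine TopCat.Sheaf.eq_of_locally_eq' (⟨(cokernel (toFn I n)).presheaf, (cokernel (toFn I n)).isSheaf⟩ :
      TopCat.Sheaf Ab X) (fun V : X.affineOpens => V.1) ⊤ (fun V => homOfLE le_top)
      (iSup_affineOpens_eq_top X).ge _ _ fun V => ?_
    obtain ⟨t, ht⟩ := (range_toFn I n V _).2 (hf V)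
    rw [map_zero]
    refine Eq.trans (b := (cokernel.π (toFn I n)).app V.1 ((toFn I n).app V.1 t)) ?_ ?_
    · rw [show (toFn I n).app V.1 t = (Coh.structureModule X).presheaf.map (homOfLE (le_top : V.1 ≤ ⊤)).op f from ht]
      exact (ConcreteCategory.congr_hom ((cokernel.π (toFn I n)).mapPresheaf.naturality (homOfLE (le_top : V.1 ≤ ⊤)).op) f).symm
    · rw [← CategoryTheory.comp_apply, ← Scheme.Modules.Hom.comp_app, cokernel.condition]
      rfl)
  exact ⟨s, hs⟩

include hI in
theorem mem_of_section (n : ℕ) (s : Γ(pw I n, ⊤)) (V : X.affineOpens) :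
    X.presheaf.map (homOfLE (le_top : V.1 ≤ ⊤)).op (OmegaSh.fnSect X ⊤ ((toFn I n).app ⊤ s)) ∈ (I ^ n).ideal V := by
  refine (range_toFn I n V _).1 ⟨(pw I n).presheaf.map (homOfLE (le_top : V.1 ≤ ⊤)).op s, ?_⟩
  exact ConcreteCategory.congr_hom ((toFn I n).mapPresheaf.naturality (homOfLE (le_top : V.1 ≤ ⊤)).op) s

end Groth.Agent.RatSing
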