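import Mathlib
import Groth.Agent.RatSing.ExcPow
import Groth.Agent.RatSing.Exceptional
import Groth.Agent.TorBound.Bound
import Groth.Agent.PnCoh.Finite.SerreVanishing
import Groth.Agent.QCoh.GodHH
import Groth.Agent.QCoh.HHExact
import Groth.Agent.S7297
import Groth.Agent.S7298
import Groth.Agent.S7299
import Groth.Agent.ZClosLib.Basic
import Groth.Agent.QCoh.OpenSub
import Groth.Agent.S8914

/-!
# The twists of the exceptional divisor of the blow-up of a rational singularity
-/

set_option autoImplicit false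
set_option linter.style.haveILetI false
set_option linter.unusedSectionVars false
set_option backward.isDefEq.respectTransparency false
set_option backward.isDefEq.respectTransparency.types false
set_option maxHeartbeats 800000

universe u

open CategoryTheory CategoryTheory.Limits AlgebraicGeometry TopologicalSpace IsLocalRing Opposite
open Groth.Agent.NormSeq (Model locRing)

noncomputable section

namespace Groth.Agent.RatSing

/-- Tensor powers of an invertible ideal are the powers. -/
theorem nonempty_pw_iso {X : Scheme.{u}} (I : X.IdealSheafData) (hI : PicF.IsInvertible (ClSub.idealMod I)) (n : ℕ) :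
    Nonempty (pw I n ≅ ClSub.idealMod (I ^ n)) := by
  have hz : toFn I n ≫ ClSub.toSubscheme (I ^ n) = 0 := by
    refine QCoh.hom_eq_zero_of_cover (isQCoh_pw I n) (QCoh.isQCoh_pushforward _ QCoh.isQCoh_structureModule) _
      (fun V : X.affineOpens => V.1) (fun V => V.2)
      (fun x => let ⟨V, hV, hxV, _⟩ := exists_isAffineOpen_mem_and_subset (x := x) (U := ⊤) trivial; ⟨⟨V, hV⟩, hxV⟩)
      fun V s => ?_
    have hmem := (range_toFn I n V _).1 ⟨s, rfl⟩
    rw [← (I ^ n).ker_subschemeι_app, RingHom.mem_ker] at hmem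
    exact hmem
  let φ : pw I n ⟶ ClSub.idealMod (I ^ n) := kernel.lift _ (toFn I n) hz
  have hφ : φ ≫ ClSub.idealModι (I ^ n) = toFn I n := kernel.lift_ι _ _ _
  haveI : Mono φ := by
    haveI := mono_toFn I hI n
    exact mono_of_mono_fac hφ
  haveI : Epi φ := PPSheaf.epi_of_surjective_cover (PPSheaf.isQCoh_idealMod _) φ fun x => by
    obtain ⟨V, hV, hxV, -⟩ := exists_isAffineOpen_mem_and_subset (x := x) (U := ⊤) trivial
    refine ⟨V, hV, hxV, fun k => ?_⟩
    obtain ⟨s, hs⟩ := (range_toFn I n ⟨V, hV⟩ _).2 (OmegaLib.idealSect_mem (I ^ n) ⟨V, hV⟩ k)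
    refine ⟨s, OmegaLib.idealSect_injective (I ^ n) V ?_⟩
    rw [← hs]
    exact congrArg (fun ψ : pw I n ⟶ Coh.structureModule X => OmegaSh.fnSect X V (ψ.app V s)) hφ
  haveI : IsIso φ := isIso_of_mono_of_epi φ
  exact ⟨asIso φ⟩

variable {A : Type u} [CommRing A] [IsDomain A] [IsLocalRing A] [IsNoetherianRing A] [IsIntegrallyClosed A]

/-- Global functions on a normal modification. -/
theorem bijective_toGlobal {R : CommRingCat.{u}} [IsDomain R] [IsLocalRing R] [IsNoetherianRing R] [IsIntegrallyClosed R]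
    (X : Scheme.{u}) (f : X ⟶ Spec R) [IsProper f] [IsIntegral X]
    (hbir : ∃ U : (Spec R).Opens, (U : Set (Spec R)).Nonempty ∧ IsIso (f ∣_ U)) :
    Function.Bijective (Coh.toGlobal (A := R) f) := by
  obtain ⟨hgen, hb⟩ := birational_of_isIso f hbir
  let M : Model (Spec R) := { Z := X, G := f, gen := hgen, bir := hb }
  haveI : IsProper M.G := ‹IsProper f›
  have hev : ∀ a : R, RatUp.ev M (U := ⊤) trivial (Coh.toGlobal (A := R) f a) =
      algebraMap R (Spec R).functionField a := fun a => by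
    have e : (Coh.toGlobal (A := R) f a : Γ(X, ⊤)) = BlowUpLib.strHom (A := R) M.G ⊤ a := by
      show _ = (M.G.appLE ⊤ ⊤ le_top).hom ((Scheme.ΓSpecIso R).inv.hom a)
      rw [Scheme.Hom.appLE]
      simp
      rfl
    show M.toKHom _ (M.Z.presheaf.germ ⊤ _ trivial _) = _
    rw [e, germ_strHom M (U := ⊤) trivial, toK_strStalk]
  refine ⟨fun a a' h => IsFractionRing.injective R (Spec R).functionField ?_,
    fun s => ?_⟩
  · rw [← hev a, ← hev a', h]
  · obtain ⟨a, ha⟩ := TorBound.mem_range_of_mem_all M fun y =>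
      RatUp.ev_mem M (U := ⊤) (w := y) trivial trivial s
    exact ⟨a, RatUp.ev_injective M (U := ⊤) trivial ((hev a).trans ha)⟩

variable (hN : CAlg.IsNagata A) (hdim : ringKrullDim A = 2) (hA : Curv2.IsRationalSing A)
  (X : Scheme.{u}) (f : X ⟶ Spec (CommRingCat.of A)) [IsProper f] [IsIntegral X] (hXn : Pi1.IsNormalScheme X)
  (hbir : ∃ U : (Spec (CommRingCat.of A)).Opens, (U : Set (Spec (CommRingCat.of A))).Nonempty ∧ IsIso (f ∣_ U))
  (hE : BlowUp.IsEffCartierIdeal ((Curv2.idealSheaf A (maximalIdeal A)).comap f)) (n : ℕ)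


include hN hdim hA hXn hbir hE in
theorem subsingleton_H1_pw : Subsingleton (Coh.HH X (pw ((Curv2.idealSheaf A (maximalIdeal A)).comap f) n) 1) := by
  obtain ⟨e⟩ := nonempty_pw_iso ((Curv2.idealSheaf A (maximalIdeal A)).comap f) ((S8914.result _).2 hE) n
  exact QCoh.subsingleton_HH_of_iso e.symm 1 (S7299.result A hN hdim hA X f hXn hbir hE n).1

include hN hdim hA hXn hbir hE in
/-- The twists on the exceptional divisor have no first cohomology. -/
theorem subsingleton_H1_pwQuot : Subsingleton (Coh.HH X (pwQuot ((Curv2.idealSheaf A (maximalIdeal A)).comap f) n) 1) := by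
  obtain ⟨g, w, hS⟩ := exists_shortExact ((Curv2.idealSheaf A (maximalIdeal A)).comap f) ((S8914.result _).2 hE) n
  exact PnCoh.Finite.subsingleton_HH_X₃ hS 1 (subsingleton_H1_pw hN hdim hA X f hXn hbir hE n)
    (S7297.result A hN hdim hA X f hXn hbir _ (isQCoh_pw _ (n + 1)) 2 le_rfl)

include hN hdim hA hXn hbir hE in
/-- The sections of the twists. -/
theorem length_H0_pwQuot :
    letI := QCoh.modHH (Coh.toGlobal f) (pwQuot ((Curv2.idealSheaf A (maximalIdeal A)).comap f) n) 0
    Module.length A (Coh.HH X (pwQuot ((Curv2.idealSheaf A (maximalIdeal A)).comap f) n) 0) =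
      Module.length A (↥(maximalIdeal A ^ n) ⧸
        Submodule.comap (maximalIdeal A ^ n).subtype (maximalIdeal A ^ (n + 1))) := by
  have hI : PicF.IsInvertible (ClSub.idealMod ((Curv2.idealSheaf A (maximalIdeal A)).comap f)) := (S8914.result _).2 hE
  let ρ : A →+* Coh.Γtop X := Coh.toGlobal f
  let e : A ≃+* Coh.Γtop X := RingEquiv.ofBijective ρ (bijective_toGlobal (R := CommRingCat.of A) X f hbir)
  have he : ∀ a, e a = ρ a := fun a => rfl
  obtain ⟨g, w, hS⟩ := exists_shortExact ((Curv2.idealSheaf A (maximalIdeal A)).comap f) hI n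
  have hsurj : Function.Surjective (g.app ⊤) :=
    QCoh.app_top_surjective_of_HH_one hS (subsingleton_H1_pw hN hdim hA X f hXn hbir hE (n + 1))
  obtain ⟨hfinj, hexact⟩ := Lib.KoszulSheaf.sections_exact hS ⊤
  letI := QCoh.modHH ρ (pwQuot ((Curv2.idealSheaf A (maximalIdeal A)).comap f) n) 0
  letI := QCoh.secModule ρ (pwQuot ((Curv2.idealSheaf A (maximalIdeal A)).comap f) n) ⊤
  rw [← (QCoh.secH ρ (pwQuot ((Curv2.idealSheaf A (maximalIdeal A)).comap f) n)).length_eq]
  -- sections of the powers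
  have hlift : ∀ a : ↥(maximalIdeal A ^ n), ∃ s, OmegaSh.fnSect X ⊤ ((toFn ((Curv2.idealSheaf A (maximalIdeal A)).comap f) n).app ⊤ s) = e a.1 := fun a =>
    exists_of_forall ((Curv2.idealSheaf A (maximalIdeal A)).comap f) hI n _ fun V => ((S7299.result A hN hdim hA X f hXn hbir hE n).2 a.1).2 a.2 V
  choose l hl using hlift
  haveI := mono_toFn ((Curv2.idealSheaf A (maximalIdeal A)).comap f) hI n
  have hinj : Function.Injective fun s => OmegaSh.fnSect X ⊤ ((toFn ((Curv2.idealSheaf A (maximalIdeal A)).comap f) n).app ⊤ s) := fun s t h =>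
    ZClosLib.app_injective_of_mono (toFn ((Curv2.idealSheaf A (maximalIdeal A)).comap f) n) ⊤ h
  have hsmul : ∀ (c : A) (s : Γ(pw ((Curv2.idealSheaf A (maximalIdeal A)).comap f) n, ⊤)),
      OmegaSh.fnSect X ⊤ ((toFn ((Curv2.idealSheaf A (maximalIdeal A)).comap f) n).app ⊤ ((X.presheaf.map (homOfLE (le_top : (⊤ : X.Opens) ≤ ⊤)).op (ρ c)) • s)) =
        (show Γ(X, ⊤) from e c) * OmegaSh.fnSect X ⊤ ((toFn ((Curv2.idealSheaf A (maximalIdeal A)).comap f) n).app ⊤ s) := fun c s => by
    rw [Scheme.Modules.Hom.app_smul]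
    show X.presheaf.map (𝟙 (op (⊤ : X.Opens))) (ρ c) * _ = _
    rw [CategoryTheory.Functor.map_id]
    rfl
  let χ : ↥(maximalIdeal A ^ n) →ₗ[A] Γ(pwQuot ((Curv2.idealSheaf A (maximalIdeal A)).comap f) n, ⊤) :=
    { toFun := fun a => g.app ⊤ (l a)
      map_add' := fun a b => by
        rw [← map_add]
        refine congrArg _ (hinj ?_)
        show _ = OmegaSh.fnSect X ⊤ ((toFn ((Curv2.idealSheaf A (maximalIdeal A)).comap f) n).app ⊤ (l a + l b))
        dsimp only
        rw [map_add, map_add, hl, hl, hl, Submodule.coe_add, map_add]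
      map_smul' := fun c a => by
        show g.app ⊤ (l (c • a)) = (X.presheaf.map (homOfLE (le_top : (⊤ : X.Opens) ≤ ⊤)).op (ρ c)) • g.app ⊤ (l a)
        rw [← Scheme.Modules.Hom.app_smul g]
        refine congrArg _ (hinj ?_)
        show _ = OmegaSh.fnSect X ⊤ ((toFn ((Curv2.idealSheaf A (maximalIdeal A)).comap f) n).app ⊤ _)
        dsimp only
        rw [hsmul, hl, hl, Submodule.coe_smul, smul_eq_mul, map_mul] }
  have hχ : Function.Surjective χ := fun q => by
    obtain ⟨s, rfl⟩ := hsurj q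
    obtain ⟨a, ha⟩ := e.surjective (OmegaSh.fnSect X ⊤ ((toFn ((Curv2.idealSheaf A (maximalIdeal A)).comap f) n).app ⊤ s))
    have ham : a ∈ maximalIdeal A ^ n := ((S7299.result A hN hdim hA X f hXn hbir hE n).2 a).1 fun V => by
      have h := mem_of_section ((Curv2.idealSheaf A (maximalIdeal A)).comap f) hI n s V
      rw [← ha] at h
      exact h
    exact ⟨⟨a, ham⟩, congrArg _ (hinj ((hl _).trans ha))⟩
  have hker : LinearMap.ker χ = Submodule.comap (maximalIdeal A ^ n).subtype (maximalIdeal A ^ (n + 1)) := by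
    ext a
    rw [LinearMap.mem_ker, Submodule.mem_comap]
    constructor
    · intro h
      obtain ⟨t, ht⟩ := hexact (l a) h
      refine ((S7299.result A hN hdim hA X f hXn hbir hE (n + 1)).2 a.1).1 fun V => ?_
      have h1 := mem_of_section ((Curv2.idealSheaf A (maximalIdeal A)).comap f) hI (n + 1) t V
      rw [show OmegaSh.fnSect X ⊤ ((toFn ((Curv2.idealSheaf A (maximalIdeal A)).comap f) (n + 1)).app ⊤ t) = e a.1 from
        (congrArg (fun s => OmegaSh.fnSect X ⊤ ((toFn ((Curv2.idealSheaf A (maximalIdeal A)).comap f) n).app ⊤ s)) ht).trans (hl a)] at h1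
      exact h1
    · intro ha
      obtain ⟨t, ht⟩ := exists_of_forall ((Curv2.idealSheaf A (maximalIdeal A)).comap f) hI (n + 1) (e a.1)
        (((S7299.result A hN hdim hA X f hXn hbir hE (n + 1)).2 a.1).2 ha)
      have h1 : (step ((Curv2.idealSheaf A (maximalIdeal A)).comap f) n).app ⊤ t = l a := hinj ((show _ = e a.1 from ht).trans (hl a).symm)
      show g.app ⊤ (l a) = 0
      rw [← h1, ← CategoryTheory.comp_apply, ← Scheme.Modules.Hom.comp_app, w]
      rfl
  rw [← (χ.quotKerEquivOfSurjective hχ).length_eq, (Submodule.quotEquivOfEq _ _ hker).length_eq]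

end Groth.Agent.RatSing
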